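import Mathlib
import Cfsg.Prelude.Def_KGroupFacts
import Cfsg.Agent.Lib.FieldAutCard
import Cfsg.Agent.LieRecognition.FieldSemilinear
set_option linter.all false

/-!
Abstract lemmas about outer automorphism groups:
* `exists_split_hom`: a normal subgroup `N` of `A` with a complement `s : Γ → A` gives a retraction `A → Γ` with
  kernel `N`.
* `exists_out_hom`: the version for `Out G`.
-/

set_option autoImplicit false

namespace Cfsg.Agent.H183.OutAbs

/-- A homomorphism `s : Γ → A` whose image is a complement of the normal subgroup `N` (and which is injective modulo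
`N`) gives a homomorphism `A → Γ` with kernel `N` and section `s`. -/
theorem exists_split_hom {A Γ : Type*} [Group A] [Group Γ] (N : Subgroup A) [N.Normal] (s : Γ →* A)
    (hs : ∀ α : A, ∃ γ : Γ, ∃ n ∈ N, α = n * s γ) (hinj : ∀ γ, s γ ∈ N → γ = 1) :
    ∃ e : A →* Γ, Function.Surjective e ∧ e.ker = N ∧ ∀ γ, e (s γ) = γ := by
  have hbij : Function.Bijective ((QuotientGroup.mk' N).comp s) := by
    constructor
    · rw [injective_iff_map_eq_one]
      intro γ hγ
      exact hinj γ ((QuotientGroup.eq_one_iff _).1 hγ)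
    · intro x
      obtain ⟨α, rfl⟩ := QuotientGroup.mk'_surjective N x
      obtain ⟨γ, n, hn, rfl⟩ := hs α
      refine ⟨γ, ?_⟩
      rw [MonoidHom.comp_apply, map_mul]
      have : QuotientGroup.mk' N n = 1 := (QuotientGroup.eq_one_iff _).2 hn
      rw [this, one_mul]
  let E : Γ ≃* A ⧸ N := MulEquiv.ofBijective _ hbij
  refine ⟨E.symm.toMonoidHom.comp (QuotientGroup.mk' N), ?_, ?_, ?_⟩
  · exact E.symm.surjective.comp (QuotientGroup.mk'_surjective N)
  · ext α
    rw [MonoidHom.mem_ker, MonoidHom.comp_apply]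
    change E.symm (QuotientGroup.mk' N α) = 1 ↔ _
    rw [map_eq_one_iff E.symm E.symm.injective]
    exact QuotientGroup.eq_one_iff _
  · intro γ
    change E.symm (QuotientGroup.mk' N (s γ)) = γ
    rw [MulEquiv.symm_apply_eq]
    rfl

/-- `Out G → Γ` from a complement `s : Γ → Aut G` of a normal subgroup `N ≥ Inn G`. -/
theorem exists_out_hom {G : Type*} [Group G] {Γ : Type*} [Group Γ] (N : Subgroup (MulAut G)) [N.Normal]
    (hN : Cfsg.Inn G ≤ N) (s : Γ →* MulAut G)
    (hs : ∀ α : MulAut G, ∃ γ : Γ, ∃ n ∈ N, α = n * s γ) (hinj : ∀ γ, s γ ∈ N → γ = 1) :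
    ∃ φ : Cfsg.Out G →* Γ, Function.Surjective φ ∧ φ.ker = N.map (QuotientGroup.mk' (Cfsg.Inn G)) ∧
      ∀ γ, φ (QuotientGroup.mk' (Cfsg.Inn G) (s γ)) = γ := by
  obtain ⟨e, he1, he2, he3⟩ := exists_split_hom N s hs hinj
  refine ⟨QuotientGroup.lift (Cfsg.Inn G) e (fun x hx => by
    rw [he2]; exact hN hx), ?_, ?_, ?_⟩
  · intro γ
    obtain ⟨α, rfl⟩ := he1 γ
    exact ⟨QuotientGroup.mk' _ α, rfl⟩
  · ext x
    obtain ⟨α, rfl⟩ := QuotientGroup.mk'_surjective (Cfsg.Inn G) x
    rw [MonoidHom.mem_ker]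
    change e α = 1 ↔ _
    rw [← MonoidHom.mem_ker, he2, Subgroup.mem_map]
    constructor
    · intro h
      exact ⟨α, h, rfl⟩
    · rintro ⟨β, hβ, hβα⟩
      have h1 : β⁻¹ * α ∈ Cfsg.Inn G := by
        rw [QuotientGroup.mk'_eq_mk'] at hβα
        obtain ⟨z, hz, hz'⟩ := hβα
        rw [← hz', inv_mul_cancel_left]
        exact hz
      have : α = β * (β⁻¹ * α) := by rw [mul_inv_cancel_left]
      rw [this]
      exact N.mul_mem hβ (hN h1)
  · intro γ
    exact he3 γ

/-- `|Out G| * |G| = |Aut G|` for a finite group with trivial centre. -/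
theorem card_out_mul {G : Type*} [Group G] (hZ : Subgroup.center G = ⊥) :
    Nat.card (Cfsg.Out G) * Nat.card G = Nat.card (MulAut G) := by
  have h1 : Nat.card (Cfsg.Inn G) = Nat.card G := by
    have hinj : Function.Injective (MulAut.conj : G →* MulAut G) := by
      rw [injective_iff_map_eq_one]
      intro g hg
      have : g ∈ Subgroup.center G := by
        rw [Subgroup.mem_center_iff]
        intro h
        have h2 := congrArg (fun α : MulAut G => α h) hg
        simp only [MulAut.conj_apply, MulAut.one_apply] at h2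
        rw [mul_inv_eq_iff_eq_mul] at h2
        exact h2.symm
      rw [hZ] at this
      exact Subgroup.mem_bot.1 this
    exact (Nat.card_congr (MonoidHom.ofInjective hinj).toEquiv).symm
  rw [← h1, mul_comm]
  exact Subgroup.card_mul_index (Cfsg.Inn G)

/-- The centre of a nonabelian simple group is trivial. -/
theorem center_eq_bot_of_simple {G : Type*} [Group G] [IsSimpleGroup G]
    (h : ∃ a b : G, a * b ≠ b * a) : Subgroup.center G = ⊥ := by
  rcases Subgroup.Normal.eq_bot_or_eq_top (H := Subgroup.center G) inferInstance with h1 | h1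
  · exact h1
  · exfalso
    obtain ⟨a, b, hab⟩ := h
    have : b ∈ Subgroup.center G := by rw [h1]; trivial
    exact hab (Subgroup.mem_center_iff.1 this a)

/-- `Gal(F)` for `|F| = p^f` is cyclic of order `f`. -/
theorem exists_ringAut_equiv {F : Type*} [Field F] [Fintype F] {p f : ℕ} [Fact p.Prime] (hf : 1 ≤ f)
    (hF : Fintype.card F = p ^ f) : Nonempty ((F ≃+* F) ≃* Multiplicative (ZMod f)) := by
  have h1 : IsCyclic (F ≃+* F) := Cfsg.Agent.LieRecognition.FieldSemilinear.isCyclic_ringAut F
  have h2 : Nat.card (F ≃+* F) = f := Cfsg.Agent.Lib.FieldAutCard.card_ringAut hf hF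
  have h3 : Nat.card (Multiplicative (ZMod f)) = f := by
    rw [Nat.card_congr Multiplicative.toAdd, Nat.card_zmod]
  exact ⟨mulEquivOfCyclicCardEq (h2.trans h3.symm)⟩

end Cfsg.Agent.H183.OutAbs
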