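import Mathlib
import Cfsg.Agent.H183.OutAbs
import Cfsg.Agent.ClassicalGeometry.AutPSL.Main
import Cfsg.Agent.S0242
import Cfsg.Agent.S0243
import Cfsg.Agent.S0249
import Cfsg.Agent.S0265
import Cfsg.Agent.TwoFusion.SLTwoFacts
set_option linter.all false

/-!
The outer automorphism group of `PSL_n(F)`.
-/

set_option autoImplicit false
set_option linter.unusedSectionVars false

namespace Cfsg.Agent.H183.OutPSL

open Matrix
open Cfsg.Agent.ClassicalGeometry.AutPSL.Root
open Cfsg.Agent.ClassicalGeometry.AutPSL.Auto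
open Cfsg.Agent.ClassicalGeometry.AutPSL.Main
open Cfsg.Agent.H183.OutAbs

section general

variable {ι F : Type*} [Fintype ι] [DecidableEq ι] [Field F]

/-- Field automorphisms on `GL`. -/
def fldGL (σ : F ≃+* F) : GL ι F ≃* GL ι F := Units.mapEquiv (RingEquiv.mapMatrix σ).toMulEquiv

theorem coe_fldGL (σ : F ≃+* F) (A : GL ι F) : ((fldGL σ A : GL ι F) : Matrix ι ι F) = (A : Matrix ι ι F).map σ := rfl

theorem coe_fldGL_inv (σ : F ≃+* F) (A : GL ι F) :
    (((fldGL σ A)⁻¹ : GL ι F) : Matrix ι ι F) = ((A⁻¹ : GL ι F) : Matrix ι ι F).map σ := by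
  rw [← map_inv]; rfl

theorem fld_mul_cj (σ : F ≃+* F) (A : GL ι F) : fld σ * cj A = cj (fldGL σ A) * fld σ := by
  apply MulEquiv.ext
  intro g
  apply Subtype.ext
  rw [MulAut.mul_apply, MulAut.mul_apply]
  have h1 : ∀ g : SpecialLinearGroup ι F, (fld σ g : Matrix ι ι F) = (g : Matrix ι ι F).map σ := fun g => rfl
  rw [h1, coe_cj, coe_cj, h1, coe_fldGL, coe_fldGL_inv, ← RingEquiv.coe_toRingHom, Matrix.map_mul,
    Matrix.map_mul]

/-- Inverse transpose on `GL`. -/
def itrGL (A : GL ι F) : GL ι F :=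
  ⟨((A⁻¹ : GL ι F) : Matrix ι ι F)ᵀ, (A : Matrix ι ι F)ᵀ, by
    rw [← transpose_mul, ← Units.val_mul, mul_inv_cancel, Units.val_one, transpose_one], by
    rw [← transpose_mul, ← Units.val_mul, inv_mul_cancel, Units.val_one, transpose_one]⟩

theorem itr_mul_cj (A : GL ι F) : (itr * cj A : MulAut (SpecialLinearGroup ι F)) = cj (itrGL A) * itr := by
  apply MulEquiv.ext
  intro g
  apply Subtype.ext
  rw [MulAut.mul_apply, MulAut.mul_apply, coe_itr, coe_cj, coe_itr]
  have h1 : ((cj A g)⁻¹ : SpecialLinearGroup ι F) = cj A g⁻¹ := (map_inv (cj A) g).symm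
  rw [h1, coe_cj, transpose_mul, transpose_mul]
  change _ = ((A⁻¹ : GL ι F) : Matrix ι ι F)ᵀ * _ * (A : Matrix ι ι F)ᵀ
  rw [mul_assoc]

theorem fld_mul_itr (σ : F ≃+* F) : (fld σ * itr : MulAut (SpecialLinearGroup ι F)) = itr * fld σ := by
  apply MulEquiv.ext
  intro g
  apply Subtype.ext
  rw [MulAut.mul_apply, MulAut.mul_apply, coe_itr, ← map_inv]
  rfl

/-- The group of automorphisms induced by `PGL`. -/
def NN (ι F : Type*) [Fintype ι] [DecidableEq ι] [Field F] :
    Subgroup (MulAut (ProjectiveSpecialLinearGroup ι F)) := (lift.comp cj).range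

theorem mem_NN {α : MulAut (ProjectiveSpecialLinearGroup ι F)} :
    α ∈ NN ι F ↔ ∃ A : GL ι F, lift (cj A) = α := Iff.rfl

theorem lift_cj_toGL (g : SpecialLinearGroup ι F) :
    lift (cj (Matrix.SpecialLinearGroup.toGL g)) = MulAut.conj (pr g) := by
  apply MulEquiv.ext
  intro y
  obtain ⟨h, rfl⟩ := pr_surjective y
  rw [lift_pr, MulAut.conj_apply]
  have : cj (Matrix.SpecialLinearGroup.toGL g) h = g * h * g⁻¹ := by
    apply Subtype.ext
    rfl
  rw [this]
  rfl

theorem inn_le_NN : Cfsg.Inn (ProjectiveSpecialLinearGroup ι F) ≤ NN ι F := by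
  rintro _ ⟨x, rfl⟩
  obtain ⟨g, rfl⟩ := pr_surjective x
  refine ⟨Matrix.SpecialLinearGroup.toGL g, ?_⟩
  exact lift_cj_toGL g

theorem normal_of (h : ∀ α : MulAut (ProjectiveSpecialLinearGroup ι F),
    (∃ (A : GL ι F) (σ : F ≃+* F), α = lift (cj A * fld σ)) ∨
    (∃ (A : GL ι F) (σ : F ≃+* F), α = lift (cj A * fld σ * itr))) : (NN ι F).Normal := by
  constructor
  rintro _ ⟨B, rfl⟩ α
  rw [MonoidHom.comp_apply]
  rcases h α with ⟨A, σ, rfl⟩ | ⟨A, σ, rfl⟩
  · refine ⟨A * fldGL σ B * A⁻¹, ?_⟩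
    rw [MonoidHom.comp_apply, eq_mul_inv_iff_mul_eq, ← map_mul, ← map_mul]
    congr 1
    rw [mul_assoc (cj A), fld_mul_cj, map_mul, map_mul, map_inv]
    simp only [mul_assoc, inv_mul_cancel_left]
  · refine ⟨A * fldGL σ (itrGL B) * A⁻¹, ?_⟩
    rw [MonoidHom.comp_apply, eq_mul_inv_iff_mul_eq, ← map_mul, ← map_mul]
    congr 1
    have h1 : fld σ * (itr * cj B) = cj (fldGL σ (itrGL B)) * (fld σ * itr) := by
      rw [itr_mul_cj, ← mul_assoc, fld_mul_cj, mul_assoc]
    calc cj (A * fldGL σ (itrGL B) * A⁻¹) * (cj A * fld σ * itr)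
        = cj A * (cj (fldGL σ (itrGL B)) * (fld σ * itr)) := by
          rw [map_mul, map_mul, map_inv]
          simp only [mul_assoc, inv_mul_cancel_left]
      _ = _ := by rw [← h1]; simp only [mul_assoc]

/-- The homomorphism `GL → Out PSL`. -/
noncomputable def toOut (ι F : Type*) [Fintype ι] [DecidableEq ι] [Field F] :
    GL ι F →* Cfsg.Out (ProjectiveSpecialLinearGroup ι F) :=
  (QuotientGroup.mk' (Cfsg.Inn _)).comp (lift.comp cj)

theorem range_toOut : (toOut ι F).range = (NN ι F).map (QuotientGroup.mk' (Cfsg.Inn _)) := by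
  rw [toOut, MonoidHom.range_comp]
  rfl

theorem toOut_of_det {A : GL ι F} (h : Matrix.GeneralLinearGroup.det A = 1) : toOut ι F A = 1 := by
  have h' : (A : Matrix ι ι F).det = 1 := congrArg Units.val h
  have : A = Matrix.SpecialLinearGroup.toGL ⟨(A : Matrix ι ι F), h'⟩ := by
    apply Units.ext
    rfl
  rw [this]
  apply (QuotientGroup.eq_one_iff _).2
  exact ⟨pr ⟨(A : Matrix ι ι F), h'⟩, (lift_cj_toGL _).symm⟩

end general

/-- `f.range` is cyclic if `f` factors through a homomorphism to a cyclic group. -/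
theorem isCyclic_range_of_ker_le {G H C : Type*} [Group G] [Group H] [Group C] [IsCyclic C] (f : G →* H)
    (d : G →* C) (h : ∀ g, d g = 1 → f g = 1) : IsCyclic f.range := by
  obtain ⟨⟨x, hx⟩, hgen⟩ := IsCyclic.exists_generator (α := d.range)
  obtain ⟨g₀, rfl⟩ := hx
  refine ⟨⟨(⟨f g₀, MonoidHom.mem_range.2 ⟨g₀, rfl⟩⟩ : f.range), fun y => ?_⟩⟩
  obtain ⟨y, hy⟩ := y
  obtain ⟨g, rfl⟩ := MonoidHom.mem_range.1 hy
  obtain ⟨k, hk⟩ := Subgroup.mem_zpowers_iff.1 (hgen ⟨d g, MonoidHom.mem_range.2 ⟨g, rfl⟩⟩)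
  refine ⟨k, Subtype.ext ?_⟩
  change f g₀ ^ k = f g
  have h1 : d g₀ ^ k = d g := congrArg Subtype.val hk
  have h2 : f (g * (g₀ ^ k)⁻¹) = 1 := by
    apply h
    rw [map_mul, map_inv, map_zpow, h1, mul_inv_cancel]
  rw [map_mul, map_inv, map_zpow, mul_inv_eq_one] at h2
  exact h2.symm

/-- the cyclic group of order two acting by inverse transpose -/
def gr {ι F : Type*} [Fintype ι] [DecidableEq ι] [Field F] :
    Multiplicative (ZMod 2) →* MulAut (SpecialLinearGroup ι F) where
  toFun x := if x = 1 then 1 else itr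
  map_one' := if_pos rfl
  map_mul' := by
    have key : ∀ x : Multiplicative (ZMod 2), x = 1 ∨ x = Multiplicative.ofAdd 1 := by decide
    have h1 : (Multiplicative.ofAdd 1 : Multiplicative (ZMod 2)) ≠ 1 := by decide
    have h2 : (Multiplicative.ofAdd 1 * Multiplicative.ofAdd 1 : Multiplicative (ZMod 2)) = 1 := by decide
    intro x y
    rcases key x with rfl | rfl <;> rcases key y with rfl | rfl
    · simp
    · rw [one_mul, if_pos rfl, one_mul]
    · rw [mul_one, if_pos rfl, mul_one]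
    · rw [h2, if_pos rfl, if_neg h1, itr_mul_itr]

theorem gr_one {ι F : Type*} [Fintype ι] [DecidableEq ι] [Field F] :
    gr (Multiplicative.ofAdd (1 : ZMod 2)) = (itr : MulAut (SpecialLinearGroup ι F)) := by
  change (if (Multiplicative.ofAdd (1 : ZMod 2)) = 1 then 1 else itr) = itr
  exact if_neg (by decide)

section finite

variable {F : Type*} [Field F] [Fintype F] {n : ℕ}

theorem card_ker_aux {G Γ : Type*} [Group G] [Group Γ] [Finite G] [Finite Γ]
    (φ : Cfsg.Out G →* Γ) (hφ : Function.Surjective φ) (d : ℕ) (hZ : Subgroup.center G = ⊥)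
    (hA : Nat.card (MulAut G) = Nat.card Γ * (d * Nat.card G)) : Nat.card φ.ker = d := by
  have h1 : Nat.card φ.ker * Nat.card Γ = Nat.card (Cfsg.Out G) := by
    have := Subgroup.card_mul_index φ.ker
    rwa [Subgroup.index_ker, MonoidHom.range_eq_top.2 hφ, Subgroup.card_top] at this
  have h2 := card_out_mul hZ
  rw [← h1, hA] at h2
  have hG : 0 < Nat.card G := Nat.card_pos
  have hΓ : 0 < Nat.card Γ := Nat.card_pos
  have h3 : (Nat.card Γ * Nat.card G) * Nat.card φ.ker = (Nat.card Γ * Nat.card G) * d := by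
    linarith
  exact Nat.eq_of_mul_eq_mul_left (Nat.mul_pos hΓ hG) h3

theorem card_pgl_eq (hn : 2 ≤ n) : Nat.card (Matrix.ProjGenLinGroup (Fin n) F) =
    Nat.gcd n (Fintype.card F - 1) * Nat.card (ProjectiveSpecialLinearGroup (Fin n) F) := by
  rw [Cfsg.Agent.S0265.result]
  have h1 := Cfsg.Agent.S0242.result (F := F) rfl n (by omega)
  have h2 := Cfsg.Agent.S0243.result (F := F) rfl n hn
  have hq : 1 < Fintype.card F := Fintype.one_lt_card
  have hq' : 0 < Fintype.card F - 1 := by omega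
  rw [← h1, mul_left_comm] at h2
  exact (Nat.eq_of_mul_eq_mul_left hq' h2).symm

theorem simple_psl (hn : 2 ≤ n) (h4 : n = 2 → 4 ≤ Fintype.card F) :
    IsSimpleGroup (ProjectiveSpecialLinearGroup (Fin n) F) := by
  by_cases h : n = 2
  · subst h
    exact Cfsg.Agent.TwoFusion.SLTwoFacts.isSimpleGroup_psl (by have := h4 rfl; omega)
  · exact Cfsg.Agent.S0249.result n (by omega)

theorem center_psl (hn : 2 ≤ n) (h4 : n = 2 → 4 ≤ Fintype.card F) :
    Subgroup.center (ProjectiveSpecialLinearGroup (Fin n) F) = ⊥ := by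
  have := simple_psl hn h4
  apply center_eq_bot_of_simple
  by_contra hcomm
  push Not at hcomm
  -- PSL would be commutative, hence SL solvable; use two opposite transvections
  have h01 : (⟨0, by omega⟩ : Fin n) ≠ ⟨1, by omega⟩ := by
    intro h; exact absurd (congrArg Fin.val h) (by simp)
  have hinv : cj (Matrix.SpecialLinearGroup.toGL
      (Matrix.SpecialLinearGroup.transvection h01 (1 : F)))
      (Matrix.SpecialLinearGroup.transvection h01.symm (1 : F)) =
      Matrix.SpecialLinearGroup.transvection h01 (1 : F) *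
      Matrix.SpecialLinearGroup.transvection h01.symm (1 : F) *
      (Matrix.SpecialLinearGroup.transvection h01 (1 : F))⁻¹ := by
    apply Subtype.ext
    rfl
  have h1 : pr (cj (Matrix.SpecialLinearGroup.toGL
      (Matrix.SpecialLinearGroup.transvection h01 (1 : F)))
      (Matrix.SpecialLinearGroup.transvection h01.symm (1 : F))) =
      pr (Matrix.SpecialLinearGroup.transvection h01.symm (1 : F)) := by
    rw [hinv, map_mul, map_mul, map_inv, hcomm (pr _), mul_inv_cancel_right]
  have h2 := cj_transvection_eq h1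
  have h3 := congrFun (congrFun h2 ⟨0, by omega⟩) ⟨0, by omega⟩
  have e : ((Matrix.SpecialLinearGroup.toGL (Matrix.SpecialLinearGroup.transvection h01 (1 : F)) : GL (Fin n) F) :
    Matrix (Fin n) (Fin n) F) = 1 + single ⟨0, by omega⟩ ⟨1, by omega⟩ 1 := rfl
  rw [e] at h3
  simp [Fin.ext_iff] at h3

/-- `Out(PSL_2(q))`. -/
theorem out_two {p f : ℕ} [Fact p.Prime] (hf : 1 ≤ f) (hF : Fintype.card F = p ^ f) (h4 : 4 ≤ p ^ f) :
    ∃ φ : Cfsg.Out (Matrix.ProjectiveSpecialLinearGroup (Fin 2) F) →* Multiplicative (ZMod f),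
      Function.Surjective φ ∧ IsCyclic φ.ker ∧ Nat.card φ.ker = Nat.gcd 2 (p ^ f - 1) := by
  have : CharP F p := charP_of_card_eq_prime_pow hF
  have hN : (NN (Fin 2) F).Normal := normal_of fun α => Or.inl (surj_two p α)
  obtain ⟨e⟩ := exists_ringAut_equiv hf hF
  obtain ⟨φ, h1, h2, -⟩ := exists_out_hom (NN (Fin 2) F) inn_le_NN (lift.comp fld)
    (fun α => by
      obtain ⟨A, σ, rfl⟩ := surj_two p α
      exact ⟨σ, lift (cj A), ⟨A, rfl⟩, by rw [map_mul]; rfl⟩)
    (fun σ hσ => by
      obtain ⟨A, hA⟩ := hσ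
      have h3 : lift (cj A * fld (1 : F ≃+* F)) = lift (fld σ) := by
        rw [map_one fld, mul_one]; exact hA
      exact (injective_aux h3).2.symm)
  have : Finite (F ≃+* F) := by
    apply Nat.finite_of_card_ne_zero
    rw [Cfsg.Agent.Lib.FieldAutCard.card_ringAut hf hF]
    omega
  have hZ := center_psl (F := F) (n := 2) le_rfl (fun _ => by rw [hF]; exact h4)
  have hker : (e.toMonoidHom.comp φ).ker = φ.ker := by
    ext x
    rw [MonoidHom.mem_ker, MonoidHom.mem_ker]
    exact map_eq_one_iff e e.injective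
  refine ⟨e.toMonoidHom.comp φ, e.surjective.comp h1, ?_, ?_⟩
  · rw [hker, h2, ← range_toOut]
    exact isCyclic_range_of_ker_le _ Matrix.GeneralLinearGroup.det (fun g => toOut_of_det)
  · rw [hker]
    apply card_ker_aux φ h1 _ hZ
    rw [card_two p, card_pgl_eq le_rfl, hF]
    ring

/-- `Out(PSL_n(q))`, `n ≥ 3`. -/
theorem out_three {p f : ℕ} [Fact p.Prime] (hf : 1 ≤ f) (hF : Fintype.card F = p ^ f) (hn : 3 ≤ n) :
    ∃ φ : Cfsg.Out (Matrix.ProjectiveSpecialLinearGroup (Fin n) F) →* Multiplicative (ZMod f × ZMod 2),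
      Function.Surjective φ ∧ IsCyclic φ.ker ∧ Nat.card φ.ker = Nat.gcd n (p ^ f - 1) := by
  have : CharP F p := charP_of_card_eq_prime_pow hF
  have : Nontrivial (Fin n) := Fin.nontrivial_iff_two_le.2 (by omega)
  have hN : (NN (Fin n) F).Normal := normal_of fun α => surj_three p hn α
  obtain ⟨e⟩ := exists_ringAut_equiv hf hF
  let s : (F ≃+* F) × Multiplicative (ZMod 2) →* MulAut (SpecialLinearGroup (Fin n) F) :=
    MonoidHom.noncommCoprod fld gr (fun σ x => by
      have key : ∀ x : Multiplicative (ZMod 2), x = 1 ∨ x = Multiplicative.ofAdd 1 := by decide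
      rcases key x with rfl | rfl
      · rw [map_one]; exact Commute.one_right _
      · rw [gr_one]; exact fld_mul_itr σ)
  have hs1 : ∀ σ, s (σ, 1) = fld σ := fun σ => by
    change fld σ * gr 1 = _
    rw [map_one, mul_one]
  have hs2 : ∀ σ, s (σ, Multiplicative.ofAdd 1) = fld σ * itr := fun σ => by
    change fld σ * gr _ = _
    rw [gr_one]
  obtain ⟨φ, h1, h2, -⟩ := exists_out_hom (NN (Fin n) F) inn_le_NN (lift.comp s)
    (fun α => by
      rcases surj_three p hn α with ⟨A, σ, rfl⟩ | ⟨A, σ, rfl⟩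
      · exact ⟨(σ, 1), lift (cj A), ⟨A, rfl⟩, by rw [map_mul, MonoidHom.comp_apply, hs1]⟩
      · exact ⟨(σ, Multiplicative.ofAdd 1), lift (cj A), ⟨A, rfl⟩, by
          rw [mul_assoc, map_mul, MonoidHom.comp_apply, hs2]⟩)
    (fun x hx => by
      obtain ⟨σ, x⟩ := x
      obtain ⟨A, hA⟩ := hx
      have key : ∀ x : Multiplicative (ZMod 2), x = 1 ∨ x = Multiplicative.ofAdd 1 := by decide
      rcases key x with rfl | rfl
      · rw [MonoidHom.comp_apply, MonoidHom.comp_apply, hs1] at hA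
        have h3 : lift (cj A * fld (1 : F ≃+* F)) = lift (fld σ) := by
          rw [map_one fld, mul_one]; exact hA
        have := (injective_aux h3).2
        rw [← this]
        rfl
      · exfalso
        rw [MonoidHom.comp_apply, MonoidHom.comp_apply, hs2] at hA
        -- lift (cj A) = lift (fld σ * itr)
        apply not_graph (ι := Fin n) (F := F) (by rw [Fintype.card_fin]; exact hn) (C := A⁻¹) (σ := σ) (τ := 1)
        rw [mul_assoc, map_mul, ← hA, ← map_mul, ← map_mul, inv_mul_cancel, map_one, map_one, map_one, map_one])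
  have : Finite (F ≃+* F) := by
    apply Nat.finite_of_card_ne_zero
    rw [Cfsg.Agent.Lib.FieldAutCard.card_ringAut hf hF]
    omega
  have hZ := center_psl (F := F) (n := n) (by omega) (fun h => by omega)
  let e2 : (F ≃+* F) × Multiplicative (ZMod 2) ≃* Multiplicative (ZMod f × ZMod 2) :=
    (MulEquiv.prodCongr e (MulEquiv.refl _)).trans (MulEquiv.prodMultiplicative _ _).symm
  have hker : (e2.toMonoidHom.comp φ).ker = φ.ker := by
    ext x
    rw [MonoidHom.mem_ker, MonoidHom.mem_ker]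
    exact map_eq_one_iff e2 e2.injective
  refine ⟨e2.toMonoidHom.comp φ, e2.surjective.comp h1, ?_, ?_⟩
  · rw [hker, h2, ← range_toOut]
    exact isCyclic_range_of_ker_le _ Matrix.GeneralLinearGroup.det (fun g => toOut_of_det)
  · rw [hker]
    apply card_ker_aux φ h1 _ hZ
    rw [card_three p hn, card_pgl_eq (by omega), hF, Nat.card_prod]
    have : Nat.card (Multiplicative (ZMod 2)) = 2 := by
      rw [Nat.card_congr Multiplicative.toAdd, Nat.card_zmod]
    rw [this]
    ring

end finite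

end Cfsg.Agent.H183.OutPSL
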