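import Mathlib
import Cfsg.Agent.H183.OutAbs
import Cfsg.Agent.H183.OutPSL
import Cfsg.Agent.ClassicalGeometry.PSUAutMain
import Cfsg.Agent.ClassicalGeometry.PSUAutCount
import Cfsg.Agent.LieClassical.HermPerfect
import Cfsg.Agent.S0283
set_option linter.all false

/-!
The outer automorphism group of `PSU_n(q)`.
-/

set_option autoImplicit false
set_option linter.unusedSectionVars false

namespace Cfsg.Agent.H183.OutPSU

open Cfsg Cfsg.Agent.LieClassical.HermBasic Cfsg.Agent.LieClassical.HermSiegel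
  Cfsg.Agent.LieClassical.HermGen Cfsg.Agent.LieClassical.SUBasic Matrix
open Cfsg.Agent.ClassicalGeometry.PSUAutCount Cfsg.Agent.ClassicalGeometry.UnitAutBasic
open Cfsg.Agent.LieClassical.FieldTransfer
open Cfsg.Agent.H183.OutAbs

/-- A perfect simple group has trivial centre. -/
theorem center_eq_bot_of_perfect {G : Type*} [Group G] [IsSimpleGroup G] (h : commutator G = ⊤) :
    Subgroup.center G = ⊥ := by
  rcases Subgroup.Normal.eq_bot_or_eq_top (H := Subgroup.center G) inferInstance with h1 | h1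
  · exact h1
  · exfalso
    have h2 : commutator G = ⊥ := by
      rw [commutator_def, Subgroup.commutator_eq_bot_iff_le_centralizer]
      intro x _
      rw [Subgroup.mem_centralizer_iff]
      intro y _
      have : x ∈ Subgroup.center G := by rw [h1]; trivial
      exact Subgroup.mem_center_iff.1 this y
    rw [h] at h2
    exact bot_ne_top h2.symm

section gen

variable {F : Type*} [Field F] {q n : ℕ}

/-- `GU → Aut PSU`. -/
def cG (n q : ℕ) (F : Type*) [Field F] : GU n F q →* MulAut (PSU n F q) where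
  toFun A := toAut A 1
  map_one' := by
    apply MulEquiv.ext
    intro x
    obtain ⟨g, rfl⟩ := pr_surjective x
    rw [toAut_pr]
    change _ = pr n F q g
    congr 1
    apply ext_act
    intro y
    have h := act_semiConj (1 : GU n F q) 1 g y
    have e : ∀ z : Fin n → F, (gm (1 : GU n F q) *ᵥ fun i => (1 : F ≃+* F) (z i)) = z := by
      intro z
      rw [gm_one, one_mulVec]
      rfl
    rw [e, e] at h
    exact h
  map_mul' A B := by
    apply MulEquiv.ext
    intro x
    obtain ⟨g, rfl⟩ := pr_surjective x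
    rw [MulAut.mul_apply, toAut_pr, toAut_pr, toAut_pr]
    congr 1
    apply ext_act
    intro y
    have e : ∀ (C : GU n F q) (g : SU n F q) (z : Fin n → F),
        act (semiConj C 1 g) (gm C *ᵥ z) = gm C *ᵥ act g z := fun C g z => act_semiConj C 1 g z
    have hy : y = gm (A * B) *ᵥ (gm (A * B)⁻¹ *ᵥ y) := (gm_mulVec_inv _ _).symm
    generalize gm (A * B)⁻¹ *ᵥ y = z at hy
    subst hy
    rw [e, gm_mul, ← mulVec_mulVec, ← mulVec_mulVec, e, e]

theorem cG_apply (A : GU n F q) : cG n q F A = toAut A 1 := rfl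

/-- field automorphisms `Gal → Aut PSU` -/
def sG (n q : ℕ) (F : Type*) [Field F] : (F ≃+* F) →* MulAut (PSU n F q) where
  toFun ρ := toAut 1 ρ
  map_one' := (cG n q F).map_one
  map_mul' ρ τ := by
    apply MulEquiv.ext
    intro x
    obtain ⟨g, rfl⟩ := pr_surjective x
    rw [MulAut.mul_apply, toAut_pr, toAut_pr, toAut_pr]
    congr 1
    apply ext_act
    intro y
    have e : ∀ (ρ : F ≃+* F) (g : SU n F q) (z : Fin n → F),
        act (semiConj 1 ρ g) (fun i => ρ (z i)) = fun i => ρ (act g z i) := fun ρ g z => by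
      have := act_semiConj (1 : GU n F q) ρ g z
      rwa [gm_one, one_mulVec, one_mulVec] at this
    have hy : y = fun i => (ρ * τ) ((fun j => (ρ * τ).symm (y j)) i) := by
      funext i
      exact ((ρ * τ).apply_symm_apply _).symm
    generalize (fun j => (ρ * τ).symm (y j)) = z at hy
    subst hy
    rw [e]
    have e2 : (fun i => (ρ * τ) (z i)) = fun i => ρ ((fun j => τ (z j)) i) := rfl
    rw [e2, e, e]
    rfl

theorem sG_apply (ρ : F ≃+* F) : sG n q F ρ = toAut 1 ρ := rfl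

theorem toAut_eq (A : GU n F q) (ρ : F ≃+* F) : toAut A ρ = cG n q F A * sG n q F ρ := by
  apply MulEquiv.ext
  intro x
  obtain ⟨g, rfl⟩ := pr_surjective x
  rw [MulAut.mul_apply, cG_apply, sG_apply, toAut_pr, toAut_pr, toAut_pr]
  congr 1
  apply ext_act
  intro y
  have hy : y = gm A *ᵥ fun i => ρ ((fun j => ρ.symm ((gm A⁻¹ *ᵥ y) j)) i) := by
    have : (fun i => ρ ((fun j => ρ.symm ((gm A⁻¹ *ᵥ y) j)) i)) = gm A⁻¹ *ᵥ y := by
      funext i
      simp
    rw [this, gm_mulVec_inv]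
  generalize (fun j => ρ.symm ((gm A⁻¹ *ᵥ y) j)) = z at hy
  subst hy
  rw [act_semiConj]
  have e : ∀ (C : GU n F q) (g : SU n F q) (z : Fin n → F),
      act (semiConj C 1 g) (gm C *ᵥ z) = gm C *ᵥ act g z := fun C g z => act_semiConj C 1 g z
  have e2 : ∀ (ρ : F ≃+* F) (g : SU n F q) (z : Fin n → F),
      act (semiConj 1 ρ g) (fun i => ρ (z i)) = fun i => ρ (act g z i) := fun ρ g z => by
    have := act_semiConj (1 : GU n F q) ρ g z
    rwa [gm_one, one_mulVec, one_mulVec] at this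
  rw [e, e2]

/-- Field automorphisms act on `GU`. -/
def fG (ρ : F ≃+* F) (A : GU n F q) : GU n F q :=
  ⟨Cfsg.Agent.H183.OutPSL.fldGL ρ (A : GL (Fin n) F), by
    intro u v
    change hermForm n F q ((gm A).map ρ *ᵥ u) ((gm A).map ρ *ᵥ v) = hermForm n F q u v
    have e : ∀ u : Fin n → F, (gm A).map ρ *ᵥ u = fun i => ρ ((gm A *ᵥ fun j => ρ.symm (u j)) i) := by
      intro u
      funext i
      simp [Matrix.mulVec, dotProduct]
    rw [e, e, herm_map, herm_gm, ← herm_map]
    congr 1 <;> funext i <;> simp⟩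

theorem gm_fG (ρ : F ≃+* F) (A : GU n F q) : gm (fG ρ A) = (gm A).map ρ := rfl

theorem sG_mul_cG (ρ : F ≃+* F) (A : GU n F q) :
    sG n q F ρ * cG n q F A = cG n q F (fG ρ A) * sG n q F ρ := by
  rw [← toAut_eq]
  apply MulEquiv.ext
  intro x
  obtain ⟨g, rfl⟩ := pr_surjective x
  rw [MulAut.mul_apply, cG_apply, sG_apply, toAut_pr, toAut_pr, toAut_pr]
  congr 1
  apply ext_act
  intro y
  have hy : y = gm (fG ρ A) *ᵥ fun i => ρ ((fun j => ρ.symm ((gm (fG ρ A)⁻¹ *ᵥ y) j)) i) := by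
    have : (fun i => ρ ((fun j => ρ.symm ((gm (fG ρ A)⁻¹ *ᵥ y) j)) i)) = gm (fG ρ A)⁻¹ *ᵥ y := by
      funext i
      simp
    rw [this, gm_mulVec_inv]
  generalize (fun j => ρ.symm ((gm (fG ρ A)⁻¹ *ᵥ y) j)) = z at hy
  subst hy
  rw [act_semiConj]
  have e : ∀ (C : GU n F q) (g : SU n F q) (z : Fin n → F),
      act (semiConj C 1 g) (gm C *ᵥ z) = gm C *ᵥ act g z := fun C g z => act_semiConj C 1 g z
  have e2 : ∀ (ρ : F ≃+* F) (g : SU n F q) (z : Fin n → F),
      act (semiConj 1 ρ g) (fun i => ρ (z i)) = fun i => ρ (act g z i) := fun ρ g z => by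
    have := act_semiConj (1 : GU n F q) ρ g z
    rwa [gm_one, one_mulVec, one_mulVec] at this
  have e3 : ∀ z : Fin n → F, (gm (fG ρ A) *ᵥ fun i => ρ (z i)) = fun i => ρ ((gm A *ᵥ z) i) := by
    intro z
    rw [gm_fG]
    funext i
    simp [Matrix.mulVec, dotProduct]
  rw [e3 z, e2, e, e3]

/-- The group of automorphisms induced by `GU`. -/
def NN (n q : ℕ) (F : Type*) [Field F] : Subgroup (MulAut (PSU n F q)) := (cG n q F).range

theorem mem_NN {α : MulAut (PSU n F q)} : α ∈ NN n q F ↔ ∃ A, cG n q F A = α := Iff.rfl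

theorem cG_of_SU (g : SU n F q) (A : GU n F q) (h : gm A = mat g) :
    cG n q F A = MulAut.conj (pr n F q g) := by
  apply MulEquiv.ext
  intro x
  obtain ⟨k, rfl⟩ := pr_surjective x
  rw [cG_apply, toAut_pr, MulAut.conj_apply, ← map_inv, ← map_mul, ← map_mul]
  congr 1
  apply ext_act
  intro y
  have e : ∀ (C : GU n F q) (g : SU n F q) (z : Fin n → F),
      act (semiConj C 1 g) (gm C *ᵥ z) = gm C *ᵥ act g z := fun C g z => act_semiConj C 1 g z
  have hy : y = gm A *ᵥ (gm A⁻¹ *ᵥ y) := (gm_mulVec_inv _ _).symm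
  generalize gm A⁻¹ *ᵥ y = z at hy
  subst hy
  rw [e, h]
  change act g (act k z) = act (g * k * g⁻¹) (act g z)
  rw [act_mul, act_mul, ← act_mul g⁻¹ g, inv_mul_cancel, act_one]

theorem exists_GU_of_SU (g : SU n F q) : ∃ A : GU n F q, gm A = mat g :=
  ⟨⟨Matrix.SpecialLinearGroup.toGL g.1, fun u v => (LieClassical.SUBasic.mem_SU_iff _).1 g.2 u v⟩, rfl⟩

theorem exists_SU_of_det (A : GU n F q) (h : (gm A).det = 1) : ∃ g : SU n F q, gm A = mat g :=
  ⟨⟨⟨gm A, h⟩, (LieClassical.SUBasic.mem_SU_iff _).2 fun u v => herm_gm A u v⟩, rfl⟩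

theorem inn_le_NN : Cfsg.Inn (PSU n F q) ≤ NN n q F := by
  rintro _ ⟨x, rfl⟩
  obtain ⟨g, rfl⟩ := pr_surjective x
  obtain ⟨A, hA⟩ := exists_GU_of_SU g
  exact ⟨A, cG_of_SU g A hA⟩

theorem normal_of (h : ∀ α : MulAut (PSU n F q), ∃ (A : GU n F q) (ρ : F ≃+* F), α = toAut A ρ) :
    (NN n q F).Normal := by
  constructor
  rintro _ ⟨B, rfl⟩ α
  obtain ⟨A, σ, rfl⟩ := h α
  refine ⟨A * fG σ B * A⁻¹, ?_⟩
  rw [eq_mul_inv_iff_mul_eq, toAut_eq]
  rw [mul_assoc (cG n q F A), sG_mul_cG, map_mul, map_mul, map_inv]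
  simp only [mul_assoc, inv_mul_cancel_left]

end gen

/-- `Out(PSU_n(q))`. -/
theorem out_psu {K : Type*} [Field K] [Fintype K] {p f q n : ℕ} [Fact p.Prime] (hf : 1 ≤ f)
    (hq : q = p ^ f) (hK : Fintype.card K = q ^ 2) (hn : 3 ≤ n) (h32 : ¬ (n = 3 ∧ q = 2)) :
    ∃ φ : Cfsg.Out (Cfsg.PSU n K q) →* Multiplicative (ZMod (2 * f)),
      Function.Surjective φ ∧ IsCyclic φ.ker ∧ Nat.card φ.ker = Nat.gcd n (q + 1) := by
  have hsurj := Cfsg.Agent.ClassicalGeometry.PSUAutMain.exists_toAut hK hn h32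
  have hN : (NN n q K).Normal := normal_of hsurj
  have hcard : Fintype.card K = p ^ (2 * f) := by rw [hK, hq, ← pow_mul, mul_comm]
  obtain ⟨e⟩ := exists_ringAut_equiv (F := K) (p := p) (f := 2 * f) (by omega) hcard
  obtain ⟨φ, h1, h2, -⟩ := exists_out_hom (NN n q K) inn_le_NN (sG n q K)
    (fun α => by
      obtain ⟨A, σ, rfl⟩ := hsurj α
      exact ⟨σ, cG n q K A, ⟨A, rfl⟩, toAut_eq A σ⟩)
    (fun σ hσ => by
      obtain ⟨A, hA⟩ := hσ
      exact (eq_of_toAut_eq hK hn (A := A) (A' := 1) (ρ := 1) (ρ' := σ) hA).1)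
  have hfinG : Finite (Cfsg.GU n K q) := LieClassical.GUOrder.finite_GU n
  have hfinP : Finite (PSU n K q) := Finite.of_surjective _ (pr_surjective (n := n) (F := K) (q := q))
  have : Finite (K ≃+* K) := by
    apply Nat.finite_of_card_ne_zero
    rw [Cfsg.Agent.Lib.FieldAutCard.card_ringAut (p := p) (f := 2 * f) (by omega) hcard]
    omega
  have hsimple : IsSimpleGroup (PSU n K q) := Cfsg.Agent.S0283.result hK n hn h32
  have hperf : commutator (PSU n K q) = ⊤ := by
    have h3 := Cfsg.Agent.LieClassical.HermPerfect.commutator_SU_eq_top hK hn h32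
    have h4 : (commutator (SU n K q)).map (pr n K q) = commutator (PSU n K q) := by
      rw [commutator_def, commutator_def, Subgroup.map_commutator, ← MonoidHom.range_eq_map,
        MonoidHom.range_eq_top.2 pr_surjective]
    rw [← h4, h3, ← MonoidHom.range_eq_map, MonoidHom.range_eq_top.2 pr_surjective]
  have hZ : Subgroup.center (PSU n K q) = ⊥ := center_eq_bot_of_perfect hperf
  have hker : (e.toMonoidHom.comp φ).ker = φ.ker := by
    ext x
    rw [MonoidHom.mem_ker, MonoidHom.mem_ker]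
    exact map_eq_one_iff e e.injective
  refine ⟨e.toMonoidHom.comp φ, e.surjective.comp h1, ?_, ?_⟩
  · have h5 : ((QuotientGroup.mk' (Cfsg.Inn (PSU n K q))).comp (cG n q K)).range = φ.ker := by
      rw [h2, MonoidHom.range_comp]; rfl
    rw [hker, ← h5]
    refine Cfsg.Agent.H183.OutPSL.isCyclic_range_of_ker_le _
      (Matrix.GeneralLinearGroup.det.comp (GU n K q).subtype) (fun A hA => ?_)
    obtain ⟨g, hg⟩ := exists_SU_of_det A (congrArg Units.val hA)
    apply (QuotientGroup.eq_one_iff _).2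
    exact ⟨pr n K q g, (cG_of_SU g A hg).symm⟩
  · rw [hker]
    apply Cfsg.Agent.H183.OutPSL.card_ker_aux φ h1 _ hZ
    rw [card_mulAut_of hK hn Fact.out hf hq hsurj,
      Cfsg.Agent.Lib.FieldAutCard.card_ringAut (p := p) (f := 2 * f) (by omega) hcard]
    ring

end Cfsg.Agent.H183.OutPSU
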