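import Mathlib
import Cfsg.Prelude.Def_ClassicalGeometry
import Cfsg.Agent.ClassicalGeometry.Reflection
import Cfsg.Agent.ClassicalGeometry.OmegaIndex
import Cfsg.Agent.ClassicalGeometry.OrthDickson
set_option linter.all false

/-!
Orthogonal sums `Q₁ ⊕ Q₂` of quadratic forms and their `Ω`.
-/

set_option autoImplicit false
set_option linter.unusedSectionVars false

namespace Cfsg.Agent.H183

open QuadraticMap Module Matrix
open Cfsg.Agent.ClassicalGeometry.Reflection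

variable {F : Type*} [Field F] {ι κ : Type} [Fintype ι] [DecidableEq ι] [Fintype κ] [DecidableEq κ]

/-- The orthogonal sum as a function. -/
abbrev sumFun (Q₁ : (ι → F) → F) (Q₂ : (κ → F) → F) : (ι ⊕ κ → F) → F :=
  fun v => Q₁ (v ∘ Sum.inl) + Q₂ (v ∘ Sum.inr)

/-- The orthogonal sum as a quadratic form. -/
def sumForm (Q₁ : QuadraticForm F (ι → F)) (Q₂ : QuadraticForm F (κ → F)) :
    QuadraticForm F (ι ⊕ κ → F) :=
  Q₁.comp (LinearMap.funLeft F F Sum.inl) + Q₂.comp (LinearMap.funLeft F F Sum.inr)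

theorem coe_sumForm (Q₁ : QuadraticForm F (ι → F)) (Q₂ : QuadraticForm F (κ → F)) :
    ⇑(sumForm Q₁ Q₂) = sumFun ⇑Q₁ ⇑Q₂ := rfl

theorem sumForm_apply (Q₁ : QuadraticForm F (ι → F)) (Q₂ : QuadraticForm F (κ → F)) (v : ι ⊕ κ → F) :
    sumForm Q₁ Q₂ v = Q₁ (v ∘ Sum.inl) + Q₂ (v ∘ Sum.inr) := rfl

theorem polar_sumForm (Q₁ : QuadraticForm F (ι → F)) (Q₂ : QuadraticForm F (κ → F)) (v w : ι ⊕ κ → F) :
    polar (⇑(sumForm Q₁ Q₂)) v w =
      polar (⇑Q₁) (v ∘ Sum.inl) (w ∘ Sum.inl) + polar (⇑Q₂) (v ∘ Sum.inr) (w ∘ Sum.inr) := by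
  simp only [polar, sumForm_apply]
  have h1 : (v + w) ∘ Sum.inl = v ∘ Sum.inl + w ∘ Sum.inl := rfl
  have h2 : (v + w) ∘ Sum.inr = v ∘ Sum.inr + w ∘ Sum.inr := rfl
  rw [h1, h2]
  ring

theorem sumForm_nondegenerate (Q₁ : QuadraticForm F (ι → F)) (Q₂ : QuadraticForm F (κ → F))
    (h₁ : (polarBilin Q₁).Nondegenerate) (h₂ : (polarBilin Q₂).Nondegenerate) :
    (polarBilin (sumForm Q₁ Q₂)).Nondegenerate := by
  have hl : ∀ x, (∀ y, polar (⇑(sumForm Q₁ Q₂)) x y = 0) → x = 0 := by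
    intro x hx
    have e1 : x ∘ Sum.inl = 0 := by
      refine h₁.1 _ fun y => ?_
      have := hx (Sum.elim y 0)
      rw [polar_sumForm] at this
      simp only [Sum.elim_comp_inl, Sum.elim_comp_inr, QuadraticMap.polar_zero_right, add_zero] at this
      exact this
    have e2 : x ∘ Sum.inr = 0 := by
      refine h₂.1 _ fun y => ?_
      have := hx (Sum.elim 0 y)
      rw [polar_sumForm] at this
      simp only [Sum.elim_comp_inl, Sum.elim_comp_inr, QuadraticMap.polar_zero_right, zero_add] at this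
      exact this
    rw [← Sum.elim_comp_inl_inr x, e1, e2]
    ext (i | i) <;> rfl
  refine ⟨fun x hx => hl x hx, fun x hx => hl x fun y => ?_⟩
  rw [polar_comm]
  exact hx y

/-- Block diagonal matrices `diag(g₁, g₂)` in `GL`. -/
def blkGL : Matrix.GeneralLinearGroup ι F × Matrix.GeneralLinearGroup κ F →*
    Matrix.GeneralLinearGroup (ι ⊕ κ) F where
  toFun g := ⟨Matrix.fromBlocks (g.1 : Matrix ι ι F) 0 0 (g.2 : Matrix κ κ F),
    Matrix.fromBlocks ((g.1⁻¹ : Matrix.GeneralLinearGroup ι F) : Matrix ι ι F) 0 0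
      ((g.2⁻¹ : Matrix.GeneralLinearGroup κ F) : Matrix κ κ F),
    by
      rw [Matrix.fromBlocks_multiply, ← Units.val_mul, ← Units.val_mul, mul_inv_cancel, mul_inv_cancel]
      simp,
    by
      rw [Matrix.fromBlocks_multiply, ← Units.val_mul, ← Units.val_mul, inv_mul_cancel, inv_mul_cancel]
      simp⟩
  map_one' := by
    apply Units.ext
    simp
  map_mul' g h := by
    apply Units.ext
    simp [Matrix.fromBlocks_multiply]

theorem coe_blkGL (g : Matrix.GeneralLinearGroup ι F × Matrix.GeneralLinearGroup κ F) :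
    ((blkGL g : Matrix.GeneralLinearGroup (ι ⊕ κ) F) : Matrix (ι ⊕ κ) (ι ⊕ κ) F) =
      Matrix.fromBlocks (g.1 : Matrix ι ι F) 0 0 (g.2 : Matrix κ κ F) := rfl

theorem fromBlocks_mulVec_inl (A : Matrix ι ι F) (B : Matrix κ κ F) (x : ι ⊕ κ → F) :
    (Matrix.fromBlocks A 0 0 B *ᵥ x) ∘ Sum.inl = A *ᵥ (x ∘ Sum.inl) := by
  rw [Matrix.fromBlocks_mulVec]
  simp

theorem fromBlocks_mulVec_inr (A : Matrix ι ι F) (B : Matrix κ κ F) (x : ι ⊕ κ → F) :
    (Matrix.fromBlocks A 0 0 B *ᵥ x) ∘ Sum.inr = B *ᵥ (x ∘ Sum.inr) := by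
  rw [Matrix.fromBlocks_mulVec]
  simp

/-- `diag(g₁, g₂)` as a homomorphism of isometry groups. -/
def blk (Q₁ : (ι → F) → F) (Q₂ : (κ → F) → F) :
    Cfsg.isometryGroup F Q₁ × Cfsg.isometryGroup F Q₂ →* Cfsg.isometryGroup F (sumFun Q₁ Q₂) :=
  (blkGL.comp ((Cfsg.isometryGroup F Q₁).subtype.prodMap (Cfsg.isometryGroup F Q₂).subtype)).codRestrict _
    (fun g => (mem_isometryGroup_iff _ _).2 fun x => by
      change Q₁ ((Matrix.fromBlocks _ 0 0 _ *ᵥ x) ∘ Sum.inl) +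
        Q₂ ((Matrix.fromBlocks _ 0 0 _ *ᵥ x) ∘ Sum.inr) = _
      rw [fromBlocks_mulVec_inl, fromBlocks_mulVec_inr]
      exact congrArg₂ (· + ·) ((mem_isometryGroup_iff _ _).1 g.1.2 _) ((mem_isometryGroup_iff _ _).1 g.2.2 _))

theorem coe_blk (Q₁ : (ι → F) → F) (Q₂ : (κ → F) → F)
    (g : Cfsg.isometryGroup F Q₁ × Cfsg.isometryGroup F Q₂) :
    ((blk Q₁ Q₂ g : Matrix.GeneralLinearGroup (ι ⊕ κ) F) : Matrix (ι ⊕ κ) (ι ⊕ κ) F) =
      Matrix.fromBlocks ((g.1 : Matrix.GeneralLinearGroup ι F) : Matrix ι ι F) 0 0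
        ((g.2 : Matrix.GeneralLinearGroup κ F) : Matrix κ κ F) := rfl

theorem hom_mem_commutator {G H : Type*} [Group G] [Group H] (f : G →* H) {g : G}
    (hg : g ∈ commutator G) : f g ∈ commutator H := by
  have h : (commutator G).map f ≤ commutator H := by
    rw [commutator_def, commutator_def, Subgroup.map_commutator]
    exact Subgroup.commutator_mono le_top le_top
  exact h ⟨g, hg, rfl⟩

/-- `diag(g₁, g₂) ∈ Ω(Q₁ ⊕ Q₂)` for `g_i ∈ Ω(Q_i)`. -/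
theorem blk_mem_Omega (Q₁ : (ι → F) → F) (Q₂ : (κ → F) → F)
    (g₁ : Cfsg.isometryGroup F Q₁) (g₂ : Cfsg.isometryGroup F Q₂)
    (h₁ : g₁ ∈ Cfsg.Omega F Q₁) (h₂ : g₂ ∈ Cfsg.Omega F Q₂) :
    blk Q₁ Q₂ (g₁, g₂) ∈ Cfsg.Omega F (sumFun Q₁ Q₂) := by
  have e : blk Q₁ Q₂ (g₁, g₂) = (blk Q₁ Q₂).comp (MonoidHom.inl _ _) g₁ *
      (blk Q₁ Q₂).comp (MonoidHom.inr _ _) g₂ := by
    rw [MonoidHom.comp_apply, MonoidHom.comp_apply, ← map_mul]
    simp
  rw [e]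
  exact mul_mem (hom_mem_commutator _ h₁) (hom_mem_commutator _ h₂)

section refl

variable (Q₁ : QuadraticForm F (ι → F)) (Q₂ : QuadraticForm F (κ → F))

theorem sumForm_elim_left (v : ι → F) : sumForm Q₁ Q₂ (Sum.elim v 0) = Q₁ v := by
  rw [sumForm_apply, Sum.elim_comp_inl, Sum.elim_comp_inr, QuadraticMap.map_zero, add_zero]

theorem sumForm_elim_right (v : κ → F) : sumForm Q₁ Q₂ (Sum.elim 0 v) = Q₂ v := by
  rw [sumForm_apply, Sum.elim_comp_inl, Sum.elim_comp_inr, QuadraticMap.map_zero, zero_add]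

theorem elim_eq_of_comp {α : Type*} {x : ι ⊕ κ → α} {a : ι → α} {b : κ → α} (h1 : x ∘ Sum.inl = a)
    (h2 : x ∘ Sum.inr = b) : x = Sum.elim a b := by
  rw [← Sum.elim_comp_inl_inr x, h1, h2]

theorem reflIso_mulVec (Q : QuadraticForm F (ι → F)) (v : ι → F) (hv : Q v ≠ 0) (x : ι → F) :
    ((reflIso Q v hv : Matrix.GeneralLinearGroup ι F) : Matrix ι ι F) *ᵥ x =
      x - ((Q v)⁻¹ * polar (⇑Q) v x) • v := by
  rw [coe_reflIso, reflectionMatrix_mulVec]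

/-- `diag(r_v, 1) = r_{(v, 0)}`. -/
theorem blk_refl_one (v : ι → F) (hv : Q₁ v ≠ 0) (hv' : sumForm Q₁ Q₂ (Sum.elim v 0) ≠ 0) :
    blk (⇑Q₁) (⇑Q₂) (reflIso Q₁ v hv, 1) = reflIso (sumForm Q₁ Q₂) (Sum.elim v 0) hv' := by
  apply isometryGroup_ext
  intro x
  rw [coe_blk]
  change _ = ((reflIso (sumForm Q₁ Q₂) (Sum.elim v 0) hv' :
    Matrix.GeneralLinearGroup (ι ⊕ κ) F) : Matrix (ι ⊕ κ) (ι ⊕ κ) F) *ᵥ x
  rw [reflIso_mulVec (sumForm Q₁ Q₂), polar_sumForm, sumForm_elim_left, Sum.elim_comp_inl,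
    Sum.elim_comp_inr, QuadraticMap.polar_zero_left, add_zero]
  refine (elim_eq_of_comp (fromBlocks_mulVec_inl _ _ _) (fromBlocks_mulVec_inr _ _ _)).trans
    (elim_eq_of_comp ?_ ?_).symm
  · rw [reflIso_mulVec]
    rfl
  · funext j
    simp
  
/-- `diag(1, r_v) = r_{(0, v)}`. -/
theorem blk_one_refl (v : κ → F) (hv : Q₂ v ≠ 0) (hv' : sumForm Q₁ Q₂ (Sum.elim 0 v) ≠ 0) :
    blk (⇑Q₁) (⇑Q₂) (1, reflIso Q₂ v hv) = reflIso (sumForm Q₁ Q₂) (Sum.elim 0 v) hv' := by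
  apply isometryGroup_ext
  intro x
  rw [coe_blk]
  change _ = ((reflIso (sumForm Q₁ Q₂) (Sum.elim 0 v) hv' :
    Matrix.GeneralLinearGroup (ι ⊕ κ) F) : Matrix (ι ⊕ κ) (ι ⊕ κ) F) *ᵥ x
  rw [reflIso_mulVec (sumForm Q₁ Q₂), polar_sumForm, sumForm_elim_right, Sum.elim_comp_inl,
    Sum.elim_comp_inr, QuadraticMap.polar_zero_left, zero_add]
  refine (elim_eq_of_comp (fromBlocks_mulVec_inl _ _ _) (fromBlocks_mulVec_inr _ _ _)).trans
    (elim_eq_of_comp ?_ ?_).symm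
  · funext j
    simp
  · rw [reflIso_mulVec]
    rfl

end refl

section main

open Cfsg.Agent.ClassicalGeometry.SpinorSign
open Cfsg.Agent.ClassicalGeometry.OrthDickson

variable (Q₁ : QuadraticForm F (ι → F)) (Q₂ : QuadraticForm F (κ → F))

theorem det_blk (g : Cfsg.isometryGroup F (⇑Q₁) × Cfsg.isometryGroup F (⇑Q₂)) :
    ((blk (⇑Q₁) (⇑Q₂) g : Matrix.GeneralLinearGroup (ι ⊕ κ) F) : Matrix (ι ⊕ κ) (ι ⊕ κ) F).det =
      ((g.1 : Matrix.GeneralLinearGroup ι F) : Matrix ι ι F).det *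
        ((g.2 : Matrix.GeneralLinearGroup κ F) : Matrix κ κ F).det := by
  rw [coe_blk, Matrix.det_fromBlocks_zero₂₁]

/-- Spinor signs of `diag(g, 1)`. -/
theorem spinorSign_blk_one [Finite F] (h2 : (2 : F) ≠ 0) (h₁ : (polarBilin Q₁).Nondegenerate) {c : F}
    (hc : c ≠ 0) (g : Cfsg.isometryGroup F (⇑Q₁)) :
    spinorSign (⇑(sumForm Q₁ Q₂)) c (blk (⇑Q₁) (⇑Q₂) (g, 1)) = spinorSign (⇑Q₁) c g := by
  classical
  refine Cfsg.Agent.ClassicalGeometry.CartanDieudonne.isometry_induction h2 Q₁ h₁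
    (fun g => spinorSign (⇑(sumForm Q₁ Q₂)) c (blk (⇑Q₁) (⇑Q₂) (g, 1)) = spinorSign (⇑Q₁) c g) ?_ ?_ g
  · change spinorSign (⇑(sumForm Q₁ Q₂)) c (blk (⇑Q₁) (⇑Q₂) 1) = _
    rw [map_one, map_one]
    exact map_one _
  · intro v hv g hg
    have hv' : sumForm Q₁ Q₂ (Sum.elim v 0) ≠ 0 := by rw [sumForm_elim_left]; exact hv
    have e : ((reflIso Q₁ v hv * g, 1) : Cfsg.isometryGroup F (⇑Q₁) × Cfsg.isometryGroup F (⇑Q₂)) =
      (reflIso Q₁ v hv, 1) * (g, 1) := by simp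
    rw [e, map_mul, blk_refl_one Q₁ Q₂ v hv hv', map_mul]
    have e2 := map_mul (spinorSign (⇑(sumForm Q₁ Q₂)) c) (reflIso (sumForm Q₁ Q₂) (Sum.elim v 0) hv')
      (blk (⇑Q₁) (⇑Q₂) (g, 1))
    refine e2.trans ?_
    rw [hg, spinorSign_reflIso h2 (sumForm Q₁ Q₂) hc, spinorSign_reflIso h2 Q₁ hc, sumForm_elim_left]

/-- Dimension of the fixed space of `diag(g₁, g₂)`. -/
theorem finrank_fixSp_blk (g : Cfsg.isometryGroup F (⇑Q₁) × Cfsg.isometryGroup F (⇑Q₂)) :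
    finrank F (Cfsg.Agent.ClassicalGeometry.OrthCharTwo.fixSp (blk (⇑Q₁) (⇑Q₂) g)) =
      finrank F (Cfsg.Agent.ClassicalGeometry.OrthCharTwo.fixSp g.1) +
      finrank F (Cfsg.Agent.ClassicalGeometry.OrthCharTwo.fixSp g.2) := by
  rw [← Module.finrank_prod]
  refine LinearEquiv.finrank_eq ?_
  refine LinearEquiv.ofLinearMap
    (LinearMap.prod
      (LinearMap.codRestrict _ ((LinearMap.funLeft F F Sum.inl).comp (Submodule.subtype _)) ?_)
      (LinearMap.codRestrict _ ((LinearMap.funLeft F F Sum.inr).comp (Submodule.subtype _)) ?_))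
    (LinearMap.codRestrict _ ((LinearEquiv.sumArrowLequivProdArrow ι κ F F).symm.toLinearMap.comp
      (LinearMap.prodMap (Submodule.subtype _) (Submodule.subtype _))) ?_) ?_ ?_
  · rintro ⟨x, hx⟩
    have hx' : blk (⇑Q₁) (⇑Q₂) g |>.1.1 *ᵥ x = x := hx
    have := congrArg (fun y => y ∘ Sum.inl) hx'
    change (Matrix.fromBlocks _ 0 0 _ *ᵥ x) ∘ Sum.inl = _ at this
    rw [fromBlocks_mulVec_inl] at this
    exact this
  · rintro ⟨x, hx⟩
    have hx' : blk (⇑Q₁) (⇑Q₂) g |>.1.1 *ᵥ x = x := hx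
    have := congrArg (fun y => y ∘ Sum.inr) hx'
    change (Matrix.fromBlocks _ 0 0 _ *ᵥ x) ∘ Sum.inr = _ at this
    rw [fromBlocks_mulVec_inr] at this
    exact this
  · rintro ⟨⟨x, hx⟩, ⟨y, hy⟩⟩
    change Matrix.fromBlocks _ 0 0 _ *ᵥ (Sum.elim x y) = Sum.elim x y
    refine elim_eq_of_comp ?_ ?_
    · rw [fromBlocks_mulVec_inl, Sum.elim_comp_inl]
      exact hx
    · rw [fromBlocks_mulVec_inr, Sum.elim_comp_inr]
      exact hy
  · ext <;> rfl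
  · apply LinearMap.ext
    rintro ⟨x, hx⟩
    apply Subtype.ext
    exact Sum.elim_comp_inl_inr x

theorem dsign_blk (g : Cfsg.isometryGroup F (⇑Q₁) × Cfsg.isometryGroup F (⇑Q₂)) :
    dsign (sumForm Q₁ Q₂) (blk (⇑Q₁) (⇑Q₂) g) = dsign Q₁ g.1 * dsign Q₂ g.2 := by
  change (-1 : ℤˣ) ^ (finrank F (Cfsg.Agent.ClassicalGeometry.OrthCharTwo.fixSp (blk (⇑Q₁) (⇑Q₂) g)) + _) =
    (-1 : ℤˣ) ^ _ * (-1 : ℤˣ) ^ _
  rw [← pow_add, finrank_fixSp_blk Q₁ Q₂ g, Fintype.card_sum]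
  congr 1
  ring

/-- In characteristic two `Ω` is the kernel of the Dickson sign. -/
theorem mem_Omega_iff_dsign [Finite F] (h2 : (2 : F) = 0) (h₁ : (polarBilin Q₁).Nondegenerate)
    (h : (∃ θ : F, θ ≠ 0 ∧ θ ≠ 1) ∨ Fintype.card ι ≠ 4) (g : Cfsg.isometryGroup F (⇑Q₁)) :
    g ∈ Cfsg.Omega F (⇑Q₁) ↔ dsign Q₁ g = 1 := by
  constructor
  · exact dsign_eq_one_of_mem_commutator Q₁ h₁ h g
  · intro hg
    by_cases hne : Nonempty ι
    · by_contra hcon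
      have hidx := index_commutator_two Q₁ h2 h₁ h
      obtain ⟨u, hu⟩ : ∃ u, Q₁ u ≠ 0 := by
        by_contra hcon
        push Not at hcon
        obtain ⟨i⟩ := hne
        have h1 : (Pi.single i (1 : F) : ι → F) = 0 := by
          apply Cfsg.Agent.ClassicalGeometry.OrthCharTwo.nondeg_left Q₁ h₁
          intro y
          rw [polar, hcon, hcon, hcon]
          ring
        have h3 := congrFun h1 i
        simp at h3
      have hu' := refl_notMem_commutator Q₁ h₁ h u hu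
      have h3 : reflIso Q₁ u hu * g ∈ Cfsg.Omega F (⇑Q₁) := by
        rw [Subgroup.mul_mem_iff_of_index_two hidx]
        exact ⟨fun h => absurd h hu', fun h => absurd h hcon⟩
      have h4 := dsign_eq_one_of_mem_commutator Q₁ h₁ h _ h3
      rw [dsign_refl_mul Q₁ h₁, hg] at h4
      exact absurd h4 (by decide)
    · have : IsEmpty ι := not_nonempty_iff.1 hne
      have : g = 1 := by
        apply isometryGroup_ext
        intro x
        funext i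
        exact isEmptyElim i
      rw [this]
      exact one_mem _

theorem mem_Omega_of_card_le_one (hcard : Fintype.card ι ≤ 1) (Q : (ι → F) → F)
    (g : Cfsg.isometryGroup F Q) (hdet : ((g : Matrix.GeneralLinearGroup ι F) : Matrix ι ι F).det = 1) :
    g ∈ Cfsg.Omega F Q := by
  have hsub : Subsingleton ι := Fintype.card_le_one_iff_subsingleton.1 hcard
  have : g = 1 := by
    apply Subtype.ext
    apply Units.ext
    ext i j
    have hij : i = j := Subsingleton.elim i j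
    subst hij
    rw [Matrix.det_eq_elem_of_subsingleton _ i] at hdet
    rw [hdet]
    simp
  rw [this]
  exact one_mem _

/-- `diag(g, 1) ∈ Ω(Q₁ ⊕ Q₂)` iff `g ∈ Ω(Q₁)`. -/
theorem blk_one_mem_Omega_iff [Finite F] (h₁ : (polarBilin Q₁).Nondegenerate)
    (h₂ : (polarBilin Q₂).Nondegenerate)
    (h : (∃ θ : F, θ ≠ 0 ∧ θ ≠ 1) ∨ (Fintype.card ι ≠ 4 ∧ Fintype.card (ι ⊕ κ) ≠ 4))
    (g : Cfsg.isometryGroup F (⇑Q₁)) :
    blk (⇑Q₁) (⇑Q₂) (g, 1) ∈ Cfsg.Omega F (sumFun ⇑Q₁ ⇑Q₂) ↔ g ∈ Cfsg.Omega F (⇑Q₁) := by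
  refine ⟨fun hg => ?_, fun hg => blk_mem_Omega _ _ _ _ hg (one_mem _)⟩
  have hdet : ((g : Matrix.GeneralLinearGroup ι F) : Matrix ι ι F).det = 1 := by
    have h3 := Abelianization.commutator_subset_ker
      ((Matrix.GeneralLinearGroup.det (n := ι ⊕ κ) (R := F)).comp (Cfsg.isometryGroup F (sumFun ⇑Q₁ ⇑Q₂)).subtype) hg
    have h4 : (((blk (⇑Q₁) (⇑Q₂) (g, 1) : Matrix.GeneralLinearGroup (ι ⊕ κ) F) :
        Matrix (ι ⊕ κ) (ι ⊕ κ) F)).det = 1 := congrArg Units.val h3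
    rw [det_blk] at h4
    simpa using h4
  rcases Nat.lt_or_ge 1 (Fintype.card ι) with hc | hc
  · by_cases h2 : (2 : F) = 0
    · rw [mem_Omega_iff_dsign Q₁ h2 h₁ (h.imp id And.left)]
      have := (mem_Omega_iff_dsign (sumForm Q₁ Q₂) h2 (sumForm_nondegenerate Q₁ Q₂ h₁ h₂)
        (h.imp id And.right) _).1 hg
      rw [dsign_blk] at this
      change dsign Q₁ g * dsign Q₂ 1 = 1 at this
      rwa [dsign_one, mul_one] at this
    · rw [Cfsg.Agent.ClassicalGeometry.OmegaIndex.mem_Omega_iff h2 Q₁ h₁ hc one_ne_zero]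
      refine ⟨hdet, ?_⟩
      have := (Cfsg.Agent.ClassicalGeometry.OmegaIndex.mem_Omega_iff h2 (sumForm Q₁ Q₂)
        (sumForm_nondegenerate Q₁ Q₂ h₁ h₂) (by rw [Fintype.card_sum]; omega) one_ne_zero _).1 hg
      have h5 := this.2
      rw [spinorSign_blk_one Q₁ Q₂ h2 h₁ one_ne_zero] at h5
      exact h5
  · exact mem_Omega_of_card_le_one hc _ g hdet

/-- `diag(g, g) ∈ Ω(Q ⊕ Q)`. -/
theorem blk_diag_mem_Omega [Finite F] (h₁ : (polarBilin Q₁).Nondegenerate)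
    (h : (∃ θ : F, θ ≠ 0 ∧ θ ≠ 1) ∨ Fintype.card (ι ⊕ ι) ≠ 4)
    (g : Cfsg.isometryGroup F (⇑Q₁)) :
    blk (⇑Q₁) (⇑Q₁) (g, g) ∈ Cfsg.Omega F (sumFun ⇑Q₁ ⇑Q₁) := by
  by_cases h2 : (2 : F) = 0
  · refine (mem_Omega_iff_dsign (sumForm Q₁ Q₁) h2 (sumForm_nondegenerate Q₁ Q₁ h₁ h₁) h _).2 ?_
    rw [dsign_blk]
    exact Int.units_mul_self _
  · refine Cfsg.Agent.ClassicalGeometry.CartanDieudonne.isometry_induction h2 Q₁ h₁
      (fun g => blk (⇑Q₁) (⇑Q₁) (g, g) ∈ Cfsg.Omega F (sumFun ⇑Q₁ ⇑Q₁)) ?_ ?_ g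
    · change blk (⇑Q₁) (⇑Q₁) 1 ∈ _
      rw [map_one]
      exact one_mem _
    · intro v hv g hg
      have e : ((reflIso Q₁ v hv * g, reflIso Q₁ v hv * g) :
          Cfsg.isometryGroup F (⇑Q₁) × Cfsg.isometryGroup F (⇑Q₁)) =
          (reflIso Q₁ v hv, 1) * (1, reflIso Q₁ v hv) * (g, g) := by simp
      have hv1 : sumForm Q₁ Q₁ (Sum.elim v 0) ≠ 0 := by rw [sumForm_elim_left]; exact hv
      have hv2 : sumForm Q₁ Q₁ (Sum.elim 0 v) ≠ 0 := by rw [sumForm_elim_right]; exact hv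
      rw [e, map_mul, map_mul, blk_refl_one Q₁ Q₁ v hv hv1, blk_one_refl Q₁ Q₁ v hv hv2]
      refine mul_mem ?_ hg
      refine refl_mul_refl_mem (sumForm Q₁ Q₁) _ _ hv1 hv2 ?_ ?_
      · rw [sumForm_elim_left, sumForm_elim_right]
      · rw [sumForm_apply]
        have e1 : ((Sum.elim v 0 : ι ⊕ ι → F) - (Sum.elim 0 v : ι ⊕ ι → F)) ∘ Sum.inl = v := by
          funext i; simp
        have e2 : ((Sum.elim v 0 : ι ⊕ ι → F) - (Sum.elim 0 v : ι ⊕ ι → F)) ∘ Sum.inr = -v := by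
          funext i; simp
        rw [e1, e2, QuadraticMap.map_neg, ← two_mul]
        exact mul_ne_zero h2 hv

end main

end Cfsg.Agent.H183
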