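import Mathlib
import Cfsg.Agent.ClassicalGeometry.Discriminant
set_option linter.all false

/-!
Gram determinants of polar forms of quadratic forms on `F^n`:
* `gramDet_isometry`: similar forms, `det Gram(Q₁) * c^n`-relation;
* `isometric_iff`: over a finite field with `2 ≠ 0` two non-degenerate forms are isometric iff the product of the
  Gram determinants is a square.
-/

set_option autoImplicit false

namespace Cfsg.Agent.H183

open QuadraticMap Module

section general

variable {F : Type*} [Field F] {n : ℕ}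

/-- Gram matrix of the polar form of `Q` in the standard basis. -/
theorem gram_eq (Q : QuadraticForm F (Fin n → F)) :
    Matrix.of (fun i j : Fin n => polar ⇑Q (Pi.single i 1) (Pi.single j 1)) =
      LinearMap.BilinForm.toMatrix (Pi.basisFun F (Fin n)) (polarBilin Q) := by
  ext i j
  rw [LinearMap.BilinForm.toMatrix_apply]
  simp [Pi.basisFun_apply]

theorem gram_det_ne_zero (Q : QuadraticForm F (Fin n → F)) (hQ : (polarBilin Q).Nondegenerate) :
    (Matrix.of (fun i j : Fin n => polar ⇑Q (Pi.single i 1) (Pi.single j 1))).det ≠ 0 := by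
  rw [gram_eq]
  exact (LinearMap.BilinForm.nondegenerate_iff_det_ne_zero _).1 hQ

/-- If `Q₂ (g v) = c Q₁ v` then the Gram determinants satisfy `det G₂ * s² = c^n * det G₁` with `s ≠ 0`. -/
theorem gram_det_similar (Q₁ Q₂ : QuadraticForm F (Fin n → F)) (g : (Fin n → F) ≃ₗ[F] (Fin n → F)) (c : F)
    (hg : ∀ v, Q₂ (g v) = c * Q₁ v) :
    ∃ s : F, s ≠ 0 ∧ c ^ n *
      (Matrix.of (fun i j : Fin n => polar ⇑Q₁ (Pi.single i 1) (Pi.single j 1))).det =
      s ^ 2 * (Matrix.of (fun i j : Fin n => polar ⇑Q₂ (Pi.single i 1) (Pi.single j 1))).det := by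
  obtain ⟨s, hs, h⟩ := ClassicalGeometry.Discriminant.det_toMatrix_change (Pi.basisFun F (Fin n))
    ((Pi.basisFun F (Fin n)).map g) (polarBilin Q₂)
  refine ⟨s, hs, ?_⟩
  rw [gram_eq Q₂, ← h]
  have h1 : LinearMap.BilinForm.toMatrix ((Pi.basisFun F (Fin n)).map g) (polarBilin Q₂) =
      c • Matrix.of (fun i j : Fin n => polar ⇑Q₁ (Pi.single i 1) (Pi.single j 1)) := by
    ext i j
    rw [LinearMap.BilinForm.toMatrix_apply]
    simp only [Basis.map_apply, Pi.basisFun_apply, polarBilin_apply_apply, Matrix.smul_apply,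
      Matrix.of_apply, smul_eq_mul]
    simp only [polar, ← map_add, hg]
    ring
  rw [h1, Matrix.det_smul, Fintype.card_fin]

end general

section finite

variable {F : Type*} [Field F] [Finite F] {n : ℕ}

omit [Finite F] in
theorem polar_isSymm' (Q : QuadraticForm F (Fin n → F)) :
    LinearMap.BilinForm.IsSymm (polarBilin Q) :=
  ⟨fun x y => by
    simp only [polarBilin_apply_apply]
    exact polar_comm (⇑Q) x y⟩

theorem isometric_of_isSquare (h2 : (2 : F) ≠ 0) (Q₁ Q₂ : QuadraticForm F (Fin n → F))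
    (h₁ : (polarBilin Q₁).Nondegenerate) (h₂ : (polarBilin Q₂).Nondegenerate)
    (h : IsSquare ((Matrix.of (fun i j : Fin n => polar ⇑Q₁ (Pi.single i 1) (Pi.single j 1))).det *
      (Matrix.of (fun i j : Fin n => polar ⇑Q₂ (Pi.single i 1) (Pi.single j 1))).det)) :
    ∃ g : (Fin n → F) ≃ₗ[F] (Fin n → F), ∀ v, Q₂ (g v) = Q₁ v := by
  have : Invertible (2 : F) := invertibleOfNonzero h2
  have hd1 := gram_det_ne_zero Q₁ h₁
  have hd2 := gram_det_ne_zero Q₂ h₂
  rw [gram_eq] at hd1 hd2 h
  rw [gram_eq] at h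
  obtain ⟨v, hv⟩ := LinearMap.BilinForm.exists_orthogonal_basis
    (LinearMap.BilinForm.isSymm_iff.1 (polar_isSymm' Q₁))
  have hne : ∀ i, polarBilin Q₁ (v i) (v i) ≠ 0 := fun i =>
    LinearMap.BilinForm.iIsOrtho.not_isOrtho_basis_self_of_nondegenerate hv h₁ i
  set w : Fin (finrank F (Fin n → F)) → F := fun i => polarBilin Q₁ (v i) (v i) with hw
  have hmat : LinearMap.BilinForm.toMatrix v (polarBilin Q₁) = Matrix.diagonal w := by
    ext i j
    rw [LinearMap.BilinForm.toMatrix_apply, Matrix.diagonal_apply]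
    split_ifs with hij
    · subst hij; rfl
    · exact hv hij
  have hP : (∏ i, w i) ≠ 0 := Finset.prod_ne_zero_iff.2 fun i _ => hne i
  obtain ⟨s, hs, hsd⟩ := ClassicalGeometry.Discriminant.det_toMatrix_change (Pi.basisFun F (Fin n)) v
    (polarBilin Q₁)
  rw [hmat, Matrix.det_diagonal] at hsd
  obtain ⟨t, ht⟩ := h
  set d1 := (LinearMap.BilinForm.toMatrix (Pi.basisFun F (Fin n)) (polarBilin Q₁)).det with hd1'
  set d2 := (LinearMap.BilinForm.toMatrix (Pi.basisFun F (Fin n)) (polarBilin Q₂)).det with hd2'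
  -- d1 * d2 = t * t, ∏ w = s ^ 2 * d1
  have hdet : d2 = (t * s / ∏ i, w i) ^ 2 * ∏ i, w i := by
    have e : (t * s / ∏ i, w i) ^ 2 * ∏ i, w i = (t * t) * s ^ 2 / ∏ i, w i := by
      field_simp
    rw [e, ← ht, hsd]
    field_simp
  obtain ⟨v', hv'⟩ := ClassicalGeometry.Discriminant.exists_basis_diag h2 (polarBilin Q₂) (polar_isSymm' Q₂) h₂
    (Pi.basisFun F (Fin n)) w (by simp) hne _ hdet
  refine ⟨v.equiv v' (Equiv.refl _), fun x => ?_⟩
  have key : ∀ x y, polarBilin Q₂ (v.equiv v' (Equiv.refl _) x) (v.equiv v' (Equiv.refl _) y) =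
      polarBilin Q₁ x y := by
    have : (polarBilin Q₂).compl₁₂ (v.equiv v' (Equiv.refl _)).toLinearMap
        (v.equiv v' (Equiv.refl _)).toLinearMap = polarBilin Q₁ := by
      refine v.ext fun i => v.ext fun j => ?_
      rw [LinearMap.compl₁₂_apply]
      simp only [LinearEquiv.coe_coe, Basis.equiv_apply, Equiv.refl_apply]
      rw [hv']
      split_ifs with hij
      · subst hij; rfl
      · exact (hv hij).symm
    intro x y
    rw [← this]
    rfl
  have h3 := key x x
  simp only [polarBilin_apply_apply, QuadraticMap.polar_self] at h3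
  have h4 : (2 : F) * Q₂ (v.equiv v' (Equiv.refl _) x) = 2 * Q₁ x := by
    simpa using h3
  exact mul_left_cancel₀ h2 h4

theorem isometric_iff (h2 : (2 : F) ≠ 0) (Q₁ Q₂ : QuadraticForm F (Fin n → F))
    (h₁ : (polarBilin Q₁).Nondegenerate) (h₂ : (polarBilin Q₂).Nondegenerate) :
    (∃ g : (Fin n → F) ≃ₗ[F] (Fin n → F), ∀ v, Q₂ (g v) = Q₁ v) ↔
    IsSquare ((Matrix.of (fun i j : Fin n => polar ⇑Q₁ (Pi.single i 1) (Pi.single j 1))).det *
      (Matrix.of (fun i j : Fin n => polar ⇑Q₂ (Pi.single i 1) (Pi.single j 1))).det) := by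
  constructor
  · rintro ⟨g, hg⟩
    obtain ⟨s, hs, h⟩ := gram_det_similar Q₁ Q₂ g 1 (fun v => by rw [hg, one_mul])
    rw [one_pow, one_mul] at h
    rw [h]
    exact ⟨s * (Matrix.of (fun i j : Fin n => polar ⇑Q₂ (Pi.single i 1) (Pi.single j 1))).det, by ring⟩
  · exact isometric_of_isSquare h2 Q₁ Q₂ h₁ h₂

/-- Every element of a finite field with `2 = 0` is a square. -/
theorem isSquare_of_two_eq_zero (h2 : (2 : F) = 0) (a : F) : IsSquare a := by
  have : CharP F 2 := CharTwo.of_one_ne_zero_of_two_eq_zero one_ne_zero h2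
  exact FiniteField.isSquare_of_char_two (ringChar.eq F 2) a

theorem similar_of_even (he : Even n) (Q : QuadraticForm F (Fin n → F))
    (hQ : (polarBilin Q).Nondegenerate) (c : F) (hc : c ≠ 0) :
    ∃ g : (Fin n → F) ≃ₗ[F] (Fin n → F), ∀ v, Q (g v) = c * Q v := by
  by_cases h2 : (2 : F) = 0
  · obtain ⟨d, hd⟩ := isSquare_of_two_eq_zero h2 c
    have hd0 : d ≠ 0 := by
      rintro rfl
      exact hc (by rw [hd, mul_zero])
    refine ⟨LinearEquiv.smulOfNeZero F _ d hd0, fun v => ?_⟩
    rw [LinearEquiv.smulOfNeZero_apply, QuadraticMap.map_smul, smul_eq_mul, ← hd]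
  · have hcQ : (polarBilin (c • Q)).Nondegenerate := by
      have e : polarBilin (c • Q) = c • polarBilin Q := by
        ext x y
        simp [polar, mul_sub]
      rw [e]
      refine ⟨fun x hx => hQ.1 x fun y => ?_, fun x hx => hQ.2 x fun y => ?_⟩
      · have := hx y
        rw [LinearMap.smul_apply, LinearMap.smul_apply, smul_eq_mul] at this
        exact (mul_eq_zero.1 this).resolve_left hc
      · have := hx y
        rw [LinearMap.smul_apply, LinearMap.smul_apply, smul_eq_mul] at this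
        exact (mul_eq_zero.1 this).resolve_left hc
    obtain ⟨g, hg⟩ := isometric_of_isSquare h2 (c • Q) Q hcQ hQ (by
      obtain ⟨s, hs, h⟩ := gram_det_similar (c • Q) Q (LinearEquiv.refl F _) c⁻¹ (fun v => by
        rw [LinearEquiv.refl_apply, QuadraticMap.smul_apply, smul_eq_mul, ← mul_assoc, inv_mul_cancel₀ hc,
          one_mul])
      obtain ⟨k, rfl⟩ := he
      refine ⟨c ^ k * s * (Matrix.of
        (fun i j : Fin (k + k) => polar ⇑Q (Pi.single i 1) (Pi.single j 1))).det, ?_⟩
      have h5 : (Matrix.of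
        (fun i j : Fin (k + k) => polar ⇑(c • Q) (Pi.single i 1) (Pi.single j 1))).det =
        c ^ (k + k) * (s ^ 2 * (Matrix.of
        (fun i j : Fin (k + k) => polar ⇑Q (Pi.single i 1) (Pi.single j 1))).det) := by
        rw [← h, ← mul_assoc, ← mul_pow, mul_inv_cancel₀ hc, one_pow, one_mul]
      rw [h5]
      ring)
    refine ⟨g, fun v => ?_⟩
    rw [hg, QuadraticMap.smul_apply, smul_eq_mul]

end finite

/-- In odd dimension the multiplier of a similarity is a square (any field). -/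
theorem multiplier_isSquare_of_odd {F : Type*} [Field F] {n : ℕ} (hn : Odd n)
    (Q : QuadraticForm F (Fin n → F)) (hQ : (polarBilin Q).Nondegenerate)
    (g : (Fin n → F) ≃ₗ[F] (Fin n → F)) (c : F) (hg : ∀ v, Q (g v) = c * Q v) : IsSquare c := by
  obtain ⟨s, hs, h⟩ := gram_det_similar Q Q g c hg
  have hd := gram_det_ne_zero Q hQ
  have h1 : c ^ n = s ^ 2 := mul_right_cancel₀ hd h
  obtain ⟨k, rfl⟩ := hn
  have hc : c ≠ 0 := by
    rintro rfl
    rw [zero_pow (by omega)] at h1
    exact pow_ne_zero 2 hs h1.symm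
  refine ⟨s / c ^ k, ?_⟩
  have h3 : c * (c ^ k * c ^ k) = s ^ 2 := by rw [← h1]; ring
  field_simp
  rw [← h3]
  ring

end Cfsg.Agent.H183
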