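import Mathlib
set_option linter.all false

/-!
# Counting monic polynomials; matrices with a given characteristic polynomial
-/

set_option autoImplicit false

namespace Cfsg.Agent.H183.PolyCount

open Polynomial

variable {F : Type*} [Field F]

/-- the monic polynomial with given lower coefficients -/
noncomputable def mp (n : ℕ) (c : Fin n → F) : F[X] := X ^ n + ∑ i : Fin n, C (c i) * X ^ (i : ℕ)

theorem mp_coeff (n : ℕ) (c : Fin n → F) (i : Fin n) : (mp n c).coeff i = c i := by
  rw [mp, coeff_add, coeff_X_pow, if_neg (by have := i.2; omega), zero_add, finsetSum_coeff]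
  simp only [coeff_C_mul, coeff_X_pow]
  rw [Finset.sum_eq_single i]
  · simp
  · intro j _ hj
    rw [if_neg (fun h => hj (Fin.ext h.symm)), mul_zero]
  · simp

theorem degree_sum_lt (n : ℕ) (c : Fin n → F) : (∑ i : Fin n, C (c i) * X ^ (i : ℕ)).degree < (n : WithBot ℕ) :=
  degree_sum_fin_lt c

theorem mp_monic (n : ℕ) (c : Fin n → F) : (mp n c).Monic := monic_X_pow_add (degree_sum_lt n c)

theorem mp_natDegree (n : ℕ) (c : Fin n → F) : (mp n c).natDegree = n := by
  have := degree_sum_lt n c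
  rw [mp, natDegree_add_eq_left_of_degree_lt, natDegree_X_pow]
  rwa [degree_X_pow]

theorem eq_mp (n : ℕ) {f : F[X]} (hf : f.Monic) (hn : f.natDegree = n) : f = mp n (fun i => f.coeff i) := by
  ext k
  rcases lt_trichotomy k n with h | rfl | h
  · exact (mp_coeff n (fun i => f.coeff i) ⟨k, h⟩).symm
  · have h1 := hf.coeff_natDegree
    have h2 := (mp_monic k (fun i : Fin k => f.coeff i)).coeff_natDegree
    rw [hn] at h1
    rw [mp_natDegree] at h2
    rw [h1, h2]
  · rw [coeff_eq_zero_of_natDegree_lt (by omega), coeff_eq_zero_of_natDegree_lt (by rw [mp_natDegree]; omega)]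

theorem mp_injective (n : ℕ) : Function.Injective (mp (F := F) n) := by
  intro c d h
  funext i
  rw [← mp_coeff n c i, h, mp_coeff]

/-- every monic polynomial is a characteristic polynomial -/
theorem exists_charpoly (n : ℕ) {f : F[X]} (hf : f.Monic) (hn : f.natDegree = n) :
    ∃ M : Matrix (Fin n) (Fin n) F, M.charpoly = f := by
  subst hn
  refine ⟨Algebra.leftMulMatrix (AdjoinRoot.powerBasis hf.ne_zero).basis (AdjoinRoot.powerBasis hf.ne_zero).gen, ?_⟩
  exact (charpoly_leftMulMatrix _).trans (AdjoinRoot.minpoly_powerBasis_gen_of_monic hf)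

section Classes

variable [Fintype F] (p : ℕ) [Fact p.Prime] [CharP F p]

/-- a suitable power `g ^ (q ^ k)` has order prime to `p` -/
theorem exists_pow_coprime {G : Type*} [Group G] [Finite G] (g : G) :
    ∃ k : ℕ, (orderOf (g ^ (Fintype.card F ^ k))).Coprime p := by
  have hp : p.Prime := Fact.out
  obtain ⟨e, hp', hcard⟩ := FiniteField.card F p
  refine ⟨(orderOf g).factorization p, ?_⟩
  set a := (orderOf g).factorization p with ha
  have hg0 : orderOf g ≠ 0 := (orderOf_pos g).ne'
  rw [hcard, ← pow_mul, orderOf_pow' _ (pow_ne_zero _ hp.ne_zero)]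
  have h1 : p ^ a ∣ p ^ ((e : ℕ) * a) := pow_dvd_pow p (Nat.le_mul_of_pos_left a e.pos)
  have h2 : p ^ a ∣ Nat.gcd (orderOf g) (p ^ ((e : ℕ) * a)) := Nat.dvd_gcd (Nat.ordProj_dvd _ _) h1
  have h3 : orderOf g / Nat.gcd (orderOf g) (p ^ ((e : ℕ) * a)) ∣ orderOf g / p ^ a :=
    Nat.div_dvd_div_left (Nat.gcd_dvd_left _ _) h2
  exact Nat.Coprime.coprime_dvd_left h3 (Nat.coprime_ordCompl hp hg0).symm

variable {G : Type*} [Group G] [Finite G] {n : Type*} [Fintype n] [DecidableEq n]

theorem charpoly_pow (M : Matrix n n F) (k : ℕ) : (M ^ (Fintype.card F ^ k)).charpoly = M.charpoly := by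
  induction k with
  | zero => simp
  | succ k ih => rw [pow_succ, pow_mul, FiniteField.Matrix.charpoly_pow_card, ih]

/-- **The number of classes of elements of order prime to `p` is the number of characteristic polynomials.** -/
theorem card_classes (ρ : G →* Matrix n n F)
    (hinj : ∀ g h : G, (orderOf g).Coprime p → (orderOf h).Coprime p → (ρ g).charpoly = (ρ h).charpoly → IsConj g h) :
    Nat.card {c : ConjClasses G // ∃ g : G, ConjClasses.mk g = c ∧ (orderOf g).Coprime p} =
      Nat.card (Set.range fun g : G => (ρ g).charpoly) := by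
  classical
  have hconj : ∀ g h : G, IsConj g h → (ρ g).charpoly = (ρ h).charpoly := by
    intro g h hgh
    obtain ⟨c, rfl⟩ := isConj_iff.1 hgh
    rw [map_mul, Matrix.charpoly_mul_comm, ← map_mul, ← mul_assoc, inv_mul_cancel, one_mul]
  let χ : ConjClasses G → F[X] := Quotient.lift (fun g => (ρ g).charpoly) (fun g h hgh => hconj g h hgh)
  have hχ : ∀ g, χ (ConjClasses.mk g) = (ρ g).charpoly := fun g => rfl
  refine Nat.card_congr (Equiv.ofBijective (fun c => ⟨χ c.1, ?_⟩) ⟨?_, ?_⟩)
  · obtain ⟨g, hg, -⟩ := c.2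
    exact ⟨g, by rw [← hg, hχ]⟩
  · rintro ⟨c, g, rfl, hg⟩ ⟨d, h, rfl, hh⟩ hcd
    have h1 : χ (ConjClasses.mk g) = χ (ConjClasses.mk h) := congrArg Subtype.val hcd
    rw [hχ, hχ] at h1
    apply Subtype.ext
    exact ConjClasses.mk_eq_mk_iff_isConj.2 (hinj g h hg hh h1)
  · rintro ⟨_, g, rfl⟩
    obtain ⟨k, hk⟩ := exists_pow_coprime (F := F) p g
    refine ⟨⟨ConjClasses.mk (g ^ (Fintype.card F ^ k)), _, rfl, hk⟩, Subtype.ext ?_⟩
    show χ (ConjClasses.mk _) = (ρ g).charpoly
    rw [hχ, map_pow, charpoly_pow]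

end Classes

end Cfsg.Agent.H183.PolyCount
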