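import Cfsg.Agent.H183.PolyCount
import Cfsg.Agent.H183.SemisSU
set_option linter.all false

/-!
# The number of semisimple classes of `GL_n`, `SL_n`, `Sp_2n`, `SU_n`
-/

set_option autoImplicit false

namespace Cfsg.Agent.H183.SemisCount

open Polynomial Cfsg.Agent.H183.PolyCount Cfsg.Agent.H183.Semis

section Monic

variable {F : Type*} [Field F] [Fintype F]

/-- number of monic polynomials with constant coefficient in `S` -/
theorem card_monic (m : ℕ) (S : Set F) :
    Nat.card {f : F[X] // f.Monic ∧ f.natDegree = m + 1 ∧ f.coeff 0 ∈ S} = Nat.card S * Fintype.card F ^ m := by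
  classical
  let e : {f : F[X] // f.Monic ∧ f.natDegree = m + 1 ∧ f.coeff 0 ∈ S} ≃ (S × (Fin m → F)) :=
    { toFun := fun f => (⟨f.1.coeff 0, f.2.2.2⟩, fun i => f.1.coeff (i + 1))
      invFun := fun s => ⟨mp (m + 1) (Fin.cons (s.1 : F) s.2), mp_monic _ _, mp_natDegree _ _, by
        have := mp_coeff (m + 1) (Fin.cons (s.1 : F) s.2 : Fin (m + 1) → F) 0
        simp only [Fin.val_zero, Fin.cons_zero] at this
        rw [this]; exact s.1.2⟩
      left_inv := by
        rintro ⟨f, hf1, hf2, hf3⟩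
        apply Subtype.ext
        show mp (m + 1) _ = f
        conv_rhs => rw [eq_mp (m + 1) hf1 hf2]
        congr 1
        funext i
        refine Fin.cases ?_ (fun j => ?_) i
        · rfl
        · rfl
      right_inv := by
        rintro ⟨⟨a, ha⟩, c⟩
        have h0 := mp_coeff (m + 1) (Fin.cons a c : Fin (m + 1) → F)
        refine Prod.ext (Subtype.ext ?_) ?_
        · have := h0 0
          simpa using this
        · funext i
          have := h0 i.succ
          simpa using this }
  rw [Nat.card_congr e, Nat.card_prod, Nat.card_fun, Nat.card_eq_fintype_card (α := F), Nat.card_fin]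

end Monic

section GLin

variable {F : Type*} [Field F] [Fintype F] (p : ℕ) [Fact p.Prime] [CharP F p]

/-- **Statement S2387.** -/
theorem card_gl (n : ℕ) (hn : 1 ≤ n) :
    Nat.card {c : ConjClasses (GL (Fin n) F) // ∃ g : GL (Fin n) F, ConjClasses.mk g = c ∧ (orderOf g).Coprime p} =
      (Fintype.card F - 1) * Fintype.card F ^ (n - 1) := by
  classical
  obtain ⟨m, rfl⟩ : ∃ m, n = m + 1 := ⟨n - 1, by omega⟩
  rw [card_classes (F := F) p (Units.coeHom (Matrix (Fin (m + 1)) (Fin (m + 1)) F))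
    (fun g h hg hh hc => gl_isConj p g h hg hh hc)]
  have hset : (Set.range fun g : GL (Fin (m + 1)) F => (Units.coeHom (Matrix (Fin (m + 1)) (Fin (m + 1)) F) g).charpoly) =
      {f : F[X] | f.Monic ∧ f.natDegree = m + 1 ∧ f.coeff 0 ∈ ({0}ᶜ : Set F)} := by
    ext f
    constructor
    · rintro ⟨g, rfl⟩
      refine ⟨Matrix.charpoly_monic _, by rw [Matrix.charpoly_natDegree_eq_dim, Fintype.card_fin], ?_⟩
      intro h0
      have h1 := Matrix.det_eq_sign_charpoly_coeff (Units.coeHom (Matrix (Fin (m + 1)) (Fin (m + 1)) F) g)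
      rw [Set.mem_singleton_iff.1 h0, mul_zero] at h1
      exact (Matrix.isUnits_det_units g).ne_zero h1
    · rintro ⟨h1, h2, h3⟩
      obtain ⟨M, rfl⟩ := exists_charpoly (m + 1) h1 h2
      have hdet : M.det ≠ 0 := by
        rw [Matrix.det_eq_sign_charpoly_coeff]
        exact mul_ne_zero (pow_ne_zero _ (neg_ne_zero.2 one_ne_zero)) h3
      exact ⟨Matrix.GeneralLinearGroup.mkOfDetNeZero M hdet, rfl⟩
  rw [hset]
  have := card_monic m ({0}ᶜ : Set F)
  rw [show Nat.card ({0}ᶜ : Set F) = Fintype.card F - 1 by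
    rw [Nat.card_eq_fintype_card, Fintype.card_compl_set]; simp] at this
  exact this

/-- **Statement S2384.** -/
theorem card_sl (n : ℕ) (hn : 1 ≤ n) :
    Nat.card {c : ConjClasses (Matrix.SpecialLinearGroup (Fin n) F) //
      ∃ g : Matrix.SpecialLinearGroup (Fin n) F, ConjClasses.mk g = c ∧ (orderOf g).Coprime p} =
      Fintype.card F ^ (n - 1) := by
  classical
  obtain ⟨m, rfl⟩ : ∃ m, n = m + 1 := ⟨n - 1, by omega⟩
  let ρ : Matrix.SpecialLinearGroup (Fin (m + 1)) F →* Matrix (Fin (m + 1)) (Fin (m + 1)) F :=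
    { toFun := fun g => g
      map_one' := rfl
      map_mul' := fun _ _ => rfl }
  rw [card_classes (F := F) p ρ (fun g h hg hh hc => sl_isConj p g h hg hh hc)]
  have hset : (Set.range fun g : Matrix.SpecialLinearGroup (Fin (m + 1)) F => (ρ g).charpoly) =
      {f : F[X] | f.Monic ∧ f.natDegree = m + 1 ∧ f.coeff 0 ∈ ({(-1) ^ (m + 1)} : Set F)} := by
    have hsq : ((-1 : F) ^ (m + 1)) * ((-1 : F) ^ (m + 1)) = 1 := by
      rw [← mul_pow]; simp
    ext f
    constructor
    · rintro ⟨g, rfl⟩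
      refine ⟨Matrix.charpoly_monic _, by rw [Matrix.charpoly_natDegree_eq_dim, Fintype.card_fin], ?_⟩
      have h1 := Matrix.det_eq_sign_charpoly_coeff (ρ g)
      have h2 : (ρ g).det = 1 := g.2
      rw [h2, Fintype.card_fin] at h1
      rw [Set.mem_singleton_iff]
      calc (ρ g).charpoly.coeff 0 = ((-1 : F) ^ (m + 1)) * (((-1 : F) ^ (m + 1)) * (ρ g).charpoly.coeff 0) := by
            rw [← mul_assoc, hsq, one_mul]
        _ = (-1) ^ (m + 1) := by rw [← h1, mul_one]
    · rintro ⟨h1, h2, h3⟩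
      obtain ⟨M, rfl⟩ := exists_charpoly (m + 1) h1 h2
      have hdet : M.det = 1 := by
        rw [Matrix.det_eq_sign_charpoly_coeff, Fintype.card_fin, Set.mem_singleton_iff.1 h3, hsq]
      exact ⟨⟨M, hdet⟩, rfl⟩
  rw [hset]
  have := card_monic m ({(-1) ^ (m + 1)} : Set F)
  rw [show Nat.card ({(-1) ^ (m + 1)} : Set F) = 1 from Nat.card_unique, one_mul] at this
  exact this

end GLin

end Cfsg.Agent.H183.SemisCount
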