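import Cfsg.Agent.H183.SemisCount
set_option linter.all false

/-!
# The number of semisimple classes of `Sp_2n(q)`
-/

set_option autoImplicit false

namespace Cfsg.Agent.H183.SemisCount

open Polynomial Cfsg.Agent.H183.PolyCount Cfsg.Agent.H183.Semis Matrix

section Hankel

variable {F : Type*} [Field F]

theorem exists_hankel {S : Type*} [CommRing S] [Algebra F S] (pb : PowerBasis F S) (hpos : 0 < pb.dim) :
    ∃ H : Matrix (Fin pb.dim) (Fin pb.dim) F, Hᵀ = H ∧ IsUnit H.det ∧
      (H * Algebra.leftMulMatrix pb.basis pb.gen)ᵀ = H * Algebra.leftMulMatrix pb.basis pb.gen := by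
  let b := pb.basis
  let r := pb.gen
  let last : Fin pb.dim := ⟨pb.dim - 1, by omega⟩
  let lam : S →ₗ[F] F := b.coord last
  let D : Matrix (Fin pb.dim) (Fin pb.dim) F := Algebra.leftMulMatrix b r
  let H : Matrix (Fin pb.dim) (Fin pb.dim) F := Matrix.of fun i j => lam (b i * b j)
  have hb : ∀ i, b i = r ^ (i : ℕ) := fun i => pb.basis_eq_pow i
  refine ⟨H, ?_, ?_, ?_⟩
  · ext i j
    simp only [Matrix.transpose_apply, H, Matrix.of_apply]
    rw [mul_comm]
  · rw [isUnit_iff_ne_zero]
    intro hdet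
    obtain ⟨v, hv0, hv⟩ := Matrix.exists_mulVec_eq_zero_iff.2 hdet
    -- the polynomial of `v`
    let g : F[X] := ∑ i : Fin pb.dim, C (v i) * X ^ (i : ℕ)
    have hgc : ∀ i : Fin pb.dim, g.coeff i = v i := by
      intro i
      simp only [g, finsetSum_coeff, coeff_C_mul, coeff_X_pow]
      rw [Finset.sum_eq_single i]
      · simp
      · intro j _ hj
        rw [if_neg (fun h => hj (Fin.ext h.symm)), mul_zero]
      · simp
    have hg0 : g ≠ 0 := by
      intro h
      apply hv0
      funext i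
      rw [← hgc, h]; simp
    have hgd : g.natDegree < pb.dim := by
      rw [natDegree_lt_iff_degree_lt hg0]
      exact degree_sum_fin_lt v
    have haev : ∀ h : F[X], h.natDegree < pb.dim → ∀ i : Fin pb.dim, b.coord i (aeval r h) = h.coeff i := by
      intro h hh i
      rw [aeval_eq_sum_range' hh, ← Fin.sum_univ_eq_sum_range (fun k => h.coeff k • r ^ k) pb.dim]
      have : ∑ k : Fin pb.dim, h.coeff k • r ^ (k : ℕ) = ∑ k : Fin pb.dim, h.coeff k • b k := by
        refine Finset.sum_congr rfl fun k _ => ?_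
        rw [hb]
      rw [this, Module.Basis.coord_apply, Module.Basis.repr_sum_self]
    set k := pb.dim - 1 - g.natDegree with hk
    have h1 : lam (r ^ k * aeval r g) = 0 := by
      have h2 := congrFun hv ⟨k, by omega⟩
      simp only [Matrix.mulVec, dotProduct, H, Matrix.of_apply, Pi.zero_apply] at h2
      rw [← h2]
      have h3 : aeval r g = ∑ j : Fin pb.dim, v j • b j := by
        simp only [g, map_sum, map_mul, aeval_C, map_pow, aeval_X]
        refine Finset.sum_congr rfl fun j _ => ?_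
        rw [hb, Algebra.smul_def]
      rw [h3, Finset.mul_sum, map_sum]
      refine Finset.sum_congr rfl fun j _ => ?_
      rw [mul_smul_comm, map_smul, smul_eq_mul, mul_comm, hb ⟨k, _⟩]
    have h4 : r ^ k * aeval r g = aeval r (X ^ k * g) := by simp
    have h5 : (X ^ k * g).natDegree = pb.dim - 1 := by
      rw [natDegree_X_pow_mul k hg0]; omega
    rw [h4] at h1
    have h6 := haev (X ^ k * g) (by omega) last
    have h7 : lam (aeval r (X ^ k * g)) = (X ^ k * g).leadingCoeff := by
      rw [Polynomial.leadingCoeff, h5]; exact h6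
    rw [h1] at h7
    exact (mul_ne_zero (pow_ne_zero k X_ne_zero) hg0) (leadingCoeff_eq_zero.1 h7.symm)
  · have h1 : H * D = Matrix.of fun i j => lam (b i * (r * b j)) := by
      ext i j
      simp only [Matrix.mul_apply, H, D, Matrix.of_apply, Algebra.leftMulMatrix_eq_repr_mul]
      have : r * b j = ∑ k, (b.repr (r * b j)) k • b k := (b.sum_repr (r * b j)).symm
      conv_rhs => rw [this, Finset.mul_sum, map_sum]
      refine Finset.sum_congr rfl fun k _ => ?_
      rw [mul_smul_comm, map_smul, smul_eq_mul, mul_comm]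
    show (H * D)ᵀ = H * D
    rw [h1]
    ext i j
    simp only [Matrix.transpose_apply, Matrix.of_apply]
    congr 1
    ring

/-- a matrix with given characteristic polynomial which is self-adjoint for a nondegenerate symmetric form -/
theorem exists_sym (n : ℕ) {f : F[X]} (hf : f.Monic) (hn : f.natDegree = n) :
    ∃ D H : Matrix (Fin n) (Fin n) F, D.charpoly = f ∧ Hᵀ = H ∧ IsUnit H.det ∧ (H * D)ᵀ = H * D := by
  have hd : (AdjoinRoot.powerBasis hf.ne_zero).dim = n := (AdjoinRoot.powerBasis_dim _).trans hn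
  rcases Nat.eq_zero_or_pos n with rfl | hpos
  · refine ⟨1, 1, ?_, Subsingleton.elim _ _, by simp, Subsingleton.elim _ _⟩
    rw [Matrix.charpoly_isEmpty]
    exact (eq_one_of_monic_natDegree_zero hf hn).symm
  have hc : (Algebra.leftMulMatrix (AdjoinRoot.powerBasis hf.ne_zero).basis (AdjoinRoot.powerBasis hf.ne_zero).gen).charpoly = f :=
    (charpoly_leftMulMatrix _).trans (AdjoinRoot.minpoly_powerBasis_gen_of_monic hf)
  obtain ⟨H, hH⟩ := exists_hankel (AdjoinRoot.powerBasis hf.ne_zero) (by omega)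
  subst hd
  exact ⟨_, H, hc, hH⟩

end Hankel

section Symp

variable {F : Type*} [Field F]

/-- the symplectic matrix attached to `D`, `H` -/
theorem symp_mem {n : ℕ} (D H : Matrix (Fin n) (Fin n) F) (h1 : Hᵀ = H) (h2 : IsUnit H.det) (h3 : (H * D)ᵀ = H * D) :
    Matrix.fromBlocks 0 (-H) H⁻¹ D ∈ Matrix.symplecticGroup (Fin n) F := by
  have h4 : H * H⁻¹ = 1 := Matrix.mul_nonsing_inv _ h2
  have h5 : H⁻¹ * H = 1 := Matrix.nonsing_inv_mul _ h2
  have h6 : (H⁻¹)ᵀ = H⁻¹ := by rw [Matrix.transpose_nonsing_inv, h1]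
  have h7 : D * H⁻¹ = H⁻¹ * Dᵀ := by
    rw [Matrix.transpose_mul, h1] at h3
    calc D * H⁻¹ = (H⁻¹ * H) * D * H⁻¹ := by rw [h5, one_mul]
      _ = H⁻¹ * (H * D) * H⁻¹ := by noncomm_ring
      _ = H⁻¹ * Dᵀ * (H * H⁻¹) := by rw [← h3]; noncomm_ring
      _ = H⁻¹ * Dᵀ := by rw [h4, mul_one]
  rw [SymplecticGroup.mem_iff]
  simp only [Matrix.J, Matrix.fromBlocks_transpose, Matrix.fromBlocks_multiply]
  congr 1 <;> simp [h1, h6, h4, h5, h7]

/-- its characteristic polynomial -/
theorem eval_charpoly_symp {n : ℕ} (D H G : Matrix (Fin n) (Fin n) F) (h5 : G * H = 1) (x : F) (hx : x ≠ 0) :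
    (Matrix.fromBlocks 0 (-H) G D).charpoly.eval x = x ^ n * D.charpoly.eval (x + x⁻¹) := by
  rw [Matrix.eval_charpoly, Matrix.eval_charpoly]
  have h6 : Matrix.scalar (Fin n ⊕ Fin n) x - Matrix.fromBlocks 0 (-H) G D =
      Matrix.fromBlocks (Matrix.scalar (Fin n) x) H (-G) (Matrix.scalar (Fin n) x - D) := by
    ext i j
    rcases i with i | i <;> rcases j with j | j <;> simp [Matrix.scalar_apply, Matrix.diagonal]
  let inv : Invertible (Matrix.scalar (Fin n) x) :=
    ⟨Matrix.scalar (Fin n) x⁻¹, by rw [← map_mul, inv_mul_cancel₀ hx, map_one], by rw [← map_mul, mul_inv_cancel₀ hx, map_one]⟩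
  rw [h6, Matrix.det_fromBlocks₁₁]
  congr 1
  · simp
  · congr 1
    show Matrix.scalar (Fin n) x - D - -G * Matrix.scalar (Fin n) x⁻¹ * H = _
    have h7 : G * Matrix.scalar (Fin n) x⁻¹ * H = Matrix.scalar (Fin n) x⁻¹ := by
      rw [mul_assoc, (Matrix.scalar_commute x⁻¹ (fun r => Commute.all _ _) H).eq, ← mul_assoc, h5, one_mul]
    rw [neg_mul, neg_mul, h7, map_add]
    abel

/-- `charpoly` of the symplectic matrix determines that of `D` -/
theorem charpoly_symp_inj {n : ℕ} (D H G D' H' G' : Matrix (Fin n) (Fin n) F) (h5 : G * H = 1) (h5' : G' * H' = 1)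
    (h : (Matrix.fromBlocks 0 (-H) G D).charpoly = (Matrix.fromBlocks 0 (-H') G' D').charpoly) :
    D.charpoly = D'.charpoly := by
  let L := AlgebraicClosure F
  let φ : F →+* L := algebraMap F L
  have hmap : ∀ D H G : Matrix (Fin n) (Fin n) F, (Matrix.fromBlocks 0 (-H) G D).map φ =
      Matrix.fromBlocks 0 (-(H.map φ)) (G.map φ) (D.map φ) := by
    intro D H G
    rw [Matrix.fromBlocks_map]
    congr 1
    · ext i j; simp
    · ext i j; simp
  have hGH : ∀ G H : Matrix (Fin n) (Fin n) F, G * H = 1 → G.map φ * H.map φ = 1 := by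
    intro G H h
    rw [← Matrix.map_mul, h]
    exact Matrix.map_one φ (map_zero _) (map_one _)
  apply Polynomial.map_injective φ φ.injective
  apply Polynomial.funext
  intro y
  -- `x + x⁻¹ = y`
  obtain ⟨x, hx⟩ := IsAlgClosed.exists_root (X ^ 2 - C y * X + 1 : L[X]) (by
    have : (X ^ 2 - C y * X + 1 : L[X]).degree = 2 := by compute_degree!
    rw [this]; exact two_ne_zero)
  have hx1 : x ^ 2 - y * x + 1 = 0 := by
    have := hx
    simp only [IsRoot.def, eval_add, eval_sub, eval_pow, eval_X, eval_mul, eval_C, eval_one] at this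
    exact this
  have hx0 : x ≠ 0 := by
    rintro rfl
    simp at hx1
  have hy : x + x⁻¹ = y := by
    refine mul_left_cancel₀ hx0 ?_
    rw [mul_add, mul_inv_cancel₀ hx0]
    linear_combination hx1
  have e1 := eval_charpoly_symp (D.map φ) (H.map φ) (G.map φ) (hGH _ _ h5) x hx0
  have e2 := eval_charpoly_symp (D'.map φ) (H'.map φ) (G'.map φ) (hGH _ _ h5') x hx0
  rw [← hmap, Matrix.charpoly_map, hy, Matrix.charpoly_map] at e1 e2
  rw [h, e2] at e1
  exact (mul_left_cancel₀ (pow_ne_zero n hx0) e1).symm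

/-- the characteristic polynomial of a symplectic matrix is palindromic -/
theorem reverse_charpoly_symp {n : ℕ} (M : Matrix (Fin n ⊕ Fin n) (Fin n ⊕ Fin n) F)
    (hM : M ∈ Matrix.symplecticGroup (Fin n) F) : M.charpoly.reverse = M.charpoly := by
  have hdet := SymplecticGroup.det_eq_one hM
  have hu : IsUnit M := by rw [Matrix.isUnit_iff_isUnit_det, hdet]; exact isUnit_one
  have h1 := Matrix.charpoly_inv M hu
  rw [hdet, Ring.inverse_one, C_1, mul_one, Fintype.card_sum, Fintype.card_fin, ← two_mul, pow_mul, neg_one_sq,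
    one_pow, one_mul, ← Matrix.reverse_charpoly] at h1
  rw [← h1]
  -- `M⁻¹ = -J Mᵀ J`
  have h2 : M⁻¹ = -(Matrix.J (Fin n) F) * Mᵀ * Matrix.J (Fin n) F := (SymplecticGroup.inv_eq_symplectic_inv M hM)
  rw [h2, mul_assoc, Matrix.charpoly_mul_comm, mul_assoc]
  have h3 : Matrix.J (Fin n) F * -(Matrix.J (Fin n) F) = 1 := by
    rw [mul_neg, Matrix.J_squared, neg_neg]
  rw [h3, mul_one, Matrix.charpoly_transpose]

end Symp

section Count

variable {F : Type*} [Field F] [Fintype F] (p : ℕ) [Fact p.Prime] [CharP F p]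

theorem card_monic' (n : ℕ) : Nat.card {f : F[X] // f.Monic ∧ f.natDegree = n} = Fintype.card F ^ n := by
  let e : {f : F[X] // f.Monic ∧ f.natDegree = n} ≃ (Fin n → F) :=
    { toFun := fun f i => f.1.coeff i
      invFun := fun c => ⟨mp n c, mp_monic n c, mp_natDegree n c⟩
      left_inv := fun f => Subtype.ext (eq_mp n f.2.1 f.2.2).symm
      right_inv := fun c => funext fun i => mp_coeff n c i }
  rw [Nat.card_congr e, Nat.card_fun, Nat.card_eq_fintype_card (α := F), Nat.card_fin]

/-- **Statement S2385.** -/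
theorem card_sp (n : ℕ) :
    Nat.card {c : ConjClasses ↥(Matrix.symplecticGroup (Fin n) F) //
      ∃ g : ↥(Matrix.symplecticGroup (Fin n) F), ConjClasses.mk g = c ∧ (orderOf g).Coprime p} =
      Fintype.card F ^ n := by
  classical
  let ρ : ↥(Matrix.symplecticGroup (Fin n) F) →* Matrix (Fin n ⊕ Fin n) (Fin n ⊕ Fin n) F :=
    { toFun := fun g => g
      map_one' := rfl
      map_mul' := fun _ _ => rfl }
  rw [card_classes (F := F) p ρ (fun g h hg hh hc => sp_isConj p n g h hg hh hc)]
  have hfinR : Finite (Set.range fun g : ↥(Matrix.symplecticGroup (Fin n) F) => (ρ g).charpoly) := inferInstance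
  apply le_antisymm
  · -- upper bound
    have hcoef : ∀ (f : F[X]), f.natDegree = 2 * n → f.reverse = f → ∀ j ≤ 2 * n, f.coeff j = f.coeff (2 * n - j) := by
      intro f hf hr j hj
      conv_lhs => rw [← hr, coeff_reverse, hf, revAt_le hj]
    have hinj : Function.Injective (fun (f : Set.range fun g : ↥(Matrix.symplecticGroup (Fin n) F) => (ρ g).charpoly)
        (i : Fin n) => (f : F[X]).coeff (i + 1)) := by
      rintro ⟨_, g, rfl⟩ ⟨_, h, rfl⟩ hgh
      apply Subtype.ext
      show (ρ g).charpoly = (ρ h).charpoly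
      have hd : ∀ g, (ρ g).charpoly.natDegree = 2 * n := fun g => by
        rw [Matrix.charpoly_natDegree_eq_dim, Fintype.card_sum, Fintype.card_fin]; ring
      have hr : ∀ g, (ρ g).charpoly.reverse = (ρ g).charpoly := fun g => reverse_charpoly_symp _ g.2
      have hlow : ∀ j ≤ n, (ρ g).charpoly.coeff j = (ρ h).charpoly.coeff j := by
        intro j hj
        rcases Nat.eq_zero_or_pos j with rfl | hj0
        · rw [hcoef _ (hd g) (hr g) 0 (by omega), hcoef _ (hd h) (hr h) 0 (by omega), Nat.sub_zero]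
          have h1 := (Matrix.charpoly_monic (ρ g)).coeff_natDegree
          have h2 := (Matrix.charpoly_monic (ρ h)).coeff_natDegree
          rw [hd] at h1 h2
          rw [h1, h2]
        · have := congrFun hgh ⟨j - 1, by omega⟩
          simpa [Nat.sub_add_cancel hj0] using this
      ext j
      rcases le_or_gt j n with hj | hj
      · exact hlow j hj
      · rcases le_or_gt j (2 * n) with hj2 | hj2
        · rw [hcoef _ (hd g) (hr g) j hj2, hcoef _ (hd h) (hr h) j hj2]
          exact hlow _ (by omega)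
        · rw [coeff_eq_zero_of_natDegree_lt (by rw [hd]; exact hj2), coeff_eq_zero_of_natDegree_lt (by rw [hd]; exact hj2)]
    refine (Nat.card_le_card_of_injective _ hinj).trans ?_
    rw [Nat.card_fun, Nat.card_eq_fintype_card (α := F), Nat.card_fin]
  · -- lower bound
    rw [← card_monic' (F := F) n]
    have hex : ∀ f : {f : F[X] // f.Monic ∧ f.natDegree = n}, ∃ D H : Matrix (Fin n) (Fin n) F, D.charpoly = f.1 ∧
        Hᵀ = H ∧ IsUnit H.det ∧ (H * D)ᵀ = H * D := fun f => exists_sym n f.2.1 f.2.2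
    choose D H h1 h2 h3 h4 using hex
    let ψ : {f : F[X] // f.Monic ∧ f.natDegree = n} →
        (Set.range fun g : ↥(Matrix.symplecticGroup (Fin n) F) => (ρ g).charpoly) := fun f =>
      ⟨(Matrix.fromBlocks 0 (-H f) (H f)⁻¹ (D f)).charpoly, ⟨⟨_, symp_mem (D f) (H f) (h2 f) (h3 f) (h4 f)⟩, rfl⟩⟩
    refine Nat.card_le_card_of_injective ψ ?_
    intro f f' hff'
    have h5 : (Matrix.fromBlocks 0 (-H f) (H f)⁻¹ (D f)).charpoly = (Matrix.fromBlocks 0 (-H f') (H f')⁻¹ (D f')).charpoly :=
      congrArg Subtype.val hff'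
    have h6 := charpoly_symp_inj _ _ _ _ _ _ (Matrix.nonsing_inv_mul _ (h3 f)) (Matrix.nonsing_inv_mul _ (h3 f')) h5
    rw [h1, h1] at h6
    exact Subtype.ext h6

end Count

end Cfsg.Agent.H183.SemisCount
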